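import Mathlib

/-!
Automorphisms of order four of an abelian group of odd order with a form, moving only a plane on which
their square inverts. Any two of them in one `2`-group have equal or orthogonal planes.
-/

set_option linter.style.haveILetI false
set_option linter.unusedSectionVars false

namespace Cfsg.Lib.TwoLength

open Subgroup

universe u v

variable {A : Type u} [CommGroup A] [Finite A] {C : Type v} [CommGroup C]

/-- The elements inverted by the square. -/
def yPlane (β : MulAut A) : Subgroup A where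
  carrier := {a | β (β a) = a⁻¹}
  one_mem' := by simp
  mul_mem' := fun {a b} (ha : β (β a) = a⁻¹) (hb : β (β b) = b⁻¹) => by
    show β (β (a * b)) = (a * b)⁻¹
    rw [map_mul, map_mul, ha, hb, mul_inv]
  inv_mem' := fun {a} (ha : β (β a) = a⁻¹) => by
    show β (β a⁻¹) = a⁻¹⁻¹
    rw [map_inv, map_inv, ha]

theorem mem_yPlane {β : MulAut A} {a : A} : a ∈ yPlane β ↔ β (β a) = a⁻¹ := Iff.rfl

/-- An automorphism of order dividing four whose square inverts a plane, trivial on the elements fixed by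
the square. -/
structure SmallAut (q : ℕ) (β : MulAut A) : Prop where
  four : ∀ a, β (β (β (β a))) = a
  fixed : ∀ a, β (β a) = a → β a = a
  card : Nat.card (yPlane β) = q ^ 2

/-- The automorphism preserves the form. -/
def KeepsForm (c : A →* A →* C) (t : MulAut A) : Prop := ∀ a b, c (t a) (t b) = c a b

/-- A form on a group of odd order, alternating and non-degenerate. -/
structure GoodForm (c : A →* A →* C) : Prop where
  odd : Odd (Nat.card A)
  alt : ∀ a, c a a = 1
  nondeg : ∀ a, (∀ b, c a b = 1) → a = 1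

variable {c : A →* A →* C}

theorem eq_one_of_sq_of_odd {M : Type*} [Monoid M] {n : ℕ} (hn : Odd n) {x : M} (h2 : x ^ 2 = 1) (hx : x ^ n = 1) :
    x = 1 := by
  obtain ⟨m, rfl⟩ := hn
  rw [pow_succ, pow_mul, h2, one_pow, one_mul] at hx
  exact hx

theorem eq_one_of_eq_inv (hc : GoodForm c) {a : A} (h : a = a⁻¹) : a = 1 :=
  eq_one_of_sq_of_odd hc.odd (by rw [pow_two]; nth_rw 2 [h]; rw [mul_inv_cancel]) pow_card_eq_one'

theorem swap_eq_inv (hc : GoodForm c) (a b : A) : c b a = (c a b)⁻¹ := by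
  have h := hc.alt (a * b)
  simp only [map_mul, MonoidHom.mul_apply, hc.alt, one_mul, mul_one] at h
  exact eq_inv_of_mul_eq_one_right (by rwa [mul_comm] at h)

theorem cross_eq_one (hc : GoodForm c) (t : MulAut A) (ht : KeepsForm c t) {p r : A} (hp : t p = p⁻¹) (hr : t r = r) :
    c p r = 1 := by
  have h := ht p r
  rw [hp, hr, map_inv, MonoidHom.inv_apply] at h
  refine eq_one_of_sq_of_odd hc.odd (by rw [pow_two]; nth_rw 1 [← h]; rw [inv_mul_cancel]) ?_
  rw [← MonoidHom.pow_apply, ← map_pow, pow_card_eq_one', map_one, MonoidHom.one_apply]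

theorem exists_sq_root (hc : GoodForm c) (a : A) : ∃ m : ℕ, (a ^ 2) ^ m = a := by
  obtain ⟨m, hm⟩ := hc.odd
  refine ⟨m + 1, ?_⟩
  rw [← pow_mul, show 2 * (m + 1) = Nat.card A + 1 by omega, pow_succ, pow_card_eq_one', one_mul]

/-- An automorphism that squares to the identity splits the group. -/
theorem exists_split (hc : GoodForm c) (t : MulAut A) (ht : ∀ a, t (t a) = a) (a : A) :
    ∃ p r : A, a = p * r ∧ t p = p⁻¹ ∧ t r = r := by
  obtain ⟨m, hm⟩ := exists_sq_root hc a
  refine ⟨(a * (t a)⁻¹) ^ m, (a * t a) ^ m, ?_, ?_, ?_⟩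
  · rw [← mul_pow, mul_mul_mul_comm, inv_mul_cancel, mul_one, ← pow_two, hm]
  · rw [map_pow, map_mul, map_inv, ht, ← inv_pow, mul_inv, inv_inv, mul_comm]
  · rw [map_pow, map_mul, ht, mul_comm]

theorem sq_keeps {t : MulAut A} (ht : KeepsForm c t) : KeepsForm c (t * t) := fun a b => by
  rw [MulAut.mul_apply, MulAut.mul_apply, ht, ht]

variable {q : ℕ} [hq : Fact q.Prime]

/-- The plane and the fixed points. -/
theorem SmallAut.split {β : MulAut A} (hc : GoodForm c) (hβ : SmallAut q β) (a : A) :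
    ∃ p r : A, a = p * r ∧ p ∈ yPlane β ∧ β r = r := by
  obtain ⟨p, r, e, hp, hr⟩ := exists_split hc (β * β) (fun a => by simp [hβ.four]) a
  exact ⟨p, r, e, hp, hβ.fixed r hr⟩

theorem SmallAut.cross {β : MulAut A} (hc : GoodForm c) (hβc : KeepsForm c β) (hβ : SmallAut q β) {p r : A}
    (hp : p ∈ yPlane β) (hr : β r = r) : c p r = 1 :=
  cross_eq_one hc (β * β) (sq_keeps hβc) hp (by simp [hr])

theorem SmallAut.plane_nondeg {β : MulAut A} (hc : GoodForm c) (hβc : KeepsForm c β) (hβ : SmallAut q β) {p : A}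
    (hp : p ∈ yPlane β) (h : ∀ r ∈ yPlane β, c p r = 1) : p = 1 := by
  refine hc.nondeg p fun b => ?_
  obtain ⟨u, r, rfl, hu, hr⟩ := hβ.split hc b
  rw [map_mul, h u hu, hβ.cross hc hβc hp hr, one_mul]

theorem SmallAut.fixed_iff {β : MulAut A} (hc : GoodForm c) (hβc : KeepsForm c β) (hβ : SmallAut q β) {a : A} :
    β a = a ↔ ∀ p ∈ yPlane β, c p a = 1 := by
  refine ⟨fun h p hp => hβ.cross hc hβc hp h, fun h => ?_⟩
  obtain ⟨u, r, rfl, hu, hr⟩ := hβ.split hc a
  have hu1 : u = 1 := by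
    refine hβ.plane_nondeg hc hβc hu fun p hp => ?_
    have h1 := h p hp
    rw [map_mul, hβ.cross hc hβc hp hr, mul_one] at h1
    rw [swap_eq_inv hc, h1, inv_one]
  rw [hu1, one_mul, hr]

/-- Two elements of a plane spanning it do not commute under the form. -/
theorem SmallAut.mem_zpowers_of_form {β : MulAut A} (hc : GoodForm c) (hβc : KeepsForm c β) (hβ : SmallAut q β)
    {p r : A} (hp : p ∈ yPlane β) (hr : r ∈ yPlane β) (hp1 : p ≠ 1) (h : c p r = 1) :
    orderOf p = q ∧ r ∈ zpowers p := by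
  have hd : Nat.card (zpowers p) ∣ q ^ 2 := hβ.card ▸ card_dvd_of_le (zpowers_le.2 hp)
  obtain ⟨i, hi, hcard⟩ := (Nat.dvd_prime_pow hq.out).1 hd
  have hkey : ∀ S : Subgroup A, S ≤ yPlane β → (∀ s ∈ S, c p s = 1) → Nat.card S = q ^ 2 → p = 1 :=
    fun S hS hs hScard => hβ.plane_nondeg hc hβc hp fun s hs' =>
      hs s ((eq_of_le_of_card_ge hS (hScard.symm ▸ hβ.card.le)).ge hs')
  have hi1 : i = 1 := by
    rcases Nat.lt_or_ge i 1 with h0 | h0
    · rw [Nat.lt_one_iff.1 h0, pow_zero, Nat.card_zpowers, orderOf_eq_one_iff] at hcard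
      exact absurd hcard hp1
    rcases Nat.lt_or_ge i 2 with h2 | h2
    · omega
    refine absurd (hkey (zpowers p) (zpowers_le.2 hp) ?_ (by rw [hcard, show i = 2 by omega])) hp1
    rintro s ⟨j, rfl⟩
    show c p (p ^ j) = 1
    rw [map_zpow, hc.alt, one_zpow]
  refine ⟨by rw [← Nat.card_zpowers, hcard, hi1, pow_one], ?_⟩
  by_contra hr'
  set S := zpowers p ⊔ zpowers r
  have hS : S ≤ yPlane β := sup_le (zpowers_le.2 hp) (zpowers_le.2 hr)
  have hSc : ∀ s ∈ S, c p s = 1 := fun s hs =>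
    (sup_le (zpowers_le.2 (show p ∈ (c p).ker from hc.alt p)) (zpowers_le.2 (show r ∈ (c p).ker from h)) : S ≤ (c p).ker) hs
  obtain ⟨j, hj, hScard⟩ := (Nat.dvd_prime_pow hq.out).1 (hβ.card ▸ card_dvd_of_le hS)
  have hlt : Nat.card (zpowers p) < Nat.card S := by
    refine lt_of_le_of_ne (Nat.le_of_dvd Nat.card_pos (card_dvd_of_le (le_sup_left : zpowers p ≤ S))) fun e => hr' ?_
    exact (eq_of_le_of_card_ge (le_sup_left : zpowers p ≤ S) e.ge).ge
      ((le_sup_right : zpowers r ≤ S) (mem_zpowers r))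
  rw [hcard, hi1, hScard] at hlt
  have := (Nat.pow_lt_pow_iff_right hq.out.one_lt).1 hlt
  exact hp1 (hkey S hS hSc (by rw [hScard, show j = 2 by omega]))

theorem not_dvd_sq_add_one (hq4 : q % 4 = 3) (i : ℤ) : ¬ (q : ℤ) ∣ i ^ 2 + 1 := fun h => by
  have h1 : (i : ZMod q) ^ 2 = -1 := by
    have h2 := (ZMod.intCast_zmod_eq_zero_iff_dvd _ q).2 h
    push_cast at h2
    exact eq_neg_of_add_eq_zero_left h2
  exact (ZMod.mod_four_ne_three_of_sq_eq_neg_one h1) hq4

/-- No nontrivial element of the plane is orthogonal to its image. -/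
theorem SmallAut.aniso {β : MulAut A} (hq4 : q % 4 = 3) (hc : GoodForm c) (hβc : KeepsForm c β) (hβ : SmallAut q β)
    {p : A} (hp : p ∈ yPlane β) (h : c p (β p) = 1) : p = 1 := by
  by_contra hp1
  have hp' : β p ∈ yPlane β := by
    rw [mem_yPlane, mem_yPlane.1 hp, map_inv]
  obtain ⟨ho, i, hi⟩ := hβ.mem_zpowers_of_form hc hβc hp hp' hp1 h
  change p ^ i = β p at hi
  have h2 : p ^ (i ^ 2 + 1) = 1 := by
    rw [zpow_add, zpow_one, sq, zpow_mul, hi, ← map_zpow, hi, mem_yPlane.1 hp, inv_mul_cancel]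
  rw [← orderOf_dvd_iff_zpow_eq_one, ho] at h2
  exact not_dvd_sq_add_one hq4 i h2

/-- The plane of a conjugate. -/
theorem mem_yPlane_conj {β t : MulAut A} {a : A} : a ∈ yPlane (t * β * t⁻¹) ↔ t⁻¹ a ∈ yPlane β := by
  simp only [mem_yPlane, MulAut.mul_apply, MulAut.inv_apply, MulEquiv.symm_apply_apply]
  constructor
  · intro h
    have := congrArg t.symm h
    simpa using this
  · intro h
    rw [h, map_inv, MulEquiv.apply_symm_apply]

theorem SmallAut.conj {β : MulAut A} (hβ : SmallAut q β) (t : MulAut A) : SmallAut q (t * β * t⁻¹) where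
  four a := by simp [hβ.four]
  fixed a h := by
    simp only [MulAut.mul_apply, MulAut.inv_apply, MulEquiv.symm_apply_apply] at h ⊢
    rw [hβ.fixed (t.symm a) (t.injective (by rw [h, MulEquiv.apply_symm_apply])), MulEquiv.apply_symm_apply]
  card := by
    refine (Nat.card_congr ?_).trans hβ.card
    exact t⁻¹.toEquiv.subtypeEquiv fun a => mem_yPlane_conj

/-- The square is determined by the plane. -/
theorem SmallAut.sq_eq {β γ : MulAut A} (hc : GoodForm c) (hβc : KeepsForm c β) (hγc : KeepsForm c γ)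
    (hβ : SmallAut q β) (hγ : SmallAut q γ) (h : yPlane β = yPlane γ) (a : A) : γ (γ a) = β (β a) := by
  obtain ⟨p, r, rfl, hp, hr⟩ := hβ.split hc a
  have hr' : γ r = r := (hγ.fixed_iff hc hγc).2 (h ▸ (hβ.fixed_iff hc hβc).1 hr)
  rw [map_mul, map_mul, map_mul, map_mul, hr', hr', hr, hr, mem_yPlane.1 hp, mem_yPlane.1 (h ▸ hp)]

/-- An element commuting with the square of a small automorphism preserves the plane. -/
theorem map_plane_of_commute {β t : MulAut A} (h : ∀ a, t (β (β a)) = β (β (t a))) {a : A} (ha : a ∈ yPlane β) :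
    t a ∈ yPlane β := by
  rw [mem_yPlane, ← h, mem_yPlane.1 ha, map_inv]

/-- An involution preserving a plane is a scalar on it. -/
theorem plane_scalar {β t : MulAut A} (hc : GoodForm c) (hβc : KeepsForm c β) (hβ : SmallAut q β) (htc : KeepsForm c t)
    (ht2 : ∀ a, t (t a) = a) (hpres : ∀ a ∈ yPlane β, t a ∈ yPlane β) :
    (∀ a ∈ yPlane β, t a = a) ∨ ∀ a ∈ yPlane β, t a = a⁻¹ := by
  by_contra hh
  push Not at hh
  obtain ⟨⟨a, ha, hat⟩, ⟨b, hb, hbt⟩⟩ := hh
  have hsplit : ∀ a ∈ yPlane β, ∃ p r, a = p * r ∧ t p = p⁻¹ ∧ t r = r ∧ p ∈ yPlane β ∧ r ∈ yPlane β := by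
    intro a ha
    obtain ⟨m, hm⟩ := exists_sq_root hc a
    refine ⟨(a * (t a)⁻¹) ^ m, (a * t a) ^ m, ?_, ?_, ?_, pow_mem (mul_mem ha (inv_mem (hpres a ha))) m,
      pow_mem (mul_mem ha (hpres a ha)) m⟩
    · rw [← mul_pow, mul_mul_mul_comm, inv_mul_cancel, mul_one, ← pow_two, hm]
    · rw [map_pow, map_mul, map_inv, ht2, ← inv_pow, mul_inv, inv_inv, mul_comm]
    · rw [map_pow, map_mul, ht2, mul_comm]
  obtain ⟨p, r, rfl, hp, hr, hpP, -⟩ := hsplit a ha
  obtain ⟨p', r', rfl, hp', hr', -, hrP⟩ := hsplit b hb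
  have hp1 : p ≠ 1 := fun e => hat (by rw [e, one_mul, hr])
  have hr1 : r' ≠ 1 := fun e => hbt (by rw [e, mul_one, hp'])
  obtain ⟨-, i, hi⟩ := hβ.mem_zpowers_of_form hc hβc hpP hrP hp1 (cross_eq_one hc t htc hp hr')
  change p ^ i = r' at hi
  refine hr1 (eq_one_of_eq_inv hc ?_)
  calc r' = t r' := hr'.symm
    _ = r'⁻¹ := by rw [← hi, map_zpow, hp, inv_zpow]

/-- The planes are equal or orthogonal. -/
def PlanePair (β γ : MulAut A) : Prop :=
  yPlane β = yPlane γ ∨ ((∀ a ∈ yPlane γ, β a = a) ∧ ∀ a ∈ yPlane β, γ a = a)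

theorem pair_of_preserves {β γ : MulAut A} (hc : GoodForm c) (hβc : KeepsForm c β) (hγc : KeepsForm c γ)
    (hβ : SmallAut q β) (hγ : SmallAut q γ) (hpres : ∀ a ∈ yPlane β, γ a ∈ yPlane β) : PlanePair β γ := by
  have hfix : ∀ r, β r = r → β (γ r) = γ r := fun r hr => by
    refine (hβ.fixed_iff hc hβc).2 fun p hp => ?_
    have hp3 : γ (γ (γ p)) ∈ yPlane β := hpres _ (hpres _ (hpres p hp))
    have h := hγc (γ (γ (γ p))) r
    rw [hγ.four] at h
    rw [h]
    exact hβ.cross hc hβc hp3 hr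
  have hcom : ∀ a, γ (β (β a)) = β (β (γ a)) := by
    intro a
    obtain ⟨p, r, rfl, hp, hr⟩ := hβ.split hc a
    rw [map_mul β, map_mul β, hr, hr, map_mul, map_mul, map_mul, map_mul, hfix r hr, hfix r hr, mem_yPlane.1 hp,
      mem_yPlane.1 (hpres p hp), map_inv]
  have hyγ : ∀ a ∈ yPlane γ, (β * β) a ∈ yPlane γ := fun a ha =>
    map_plane_of_commute (t := β * β) (fun a => by
      simp only [MulAut.mul_apply]
      rw [hcom, hcom]) ha
  rcases plane_scalar hc hγc hγ (sq_keeps hβc) (fun a => by simp [hβ.four]) hyγ with h | h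
  · have h1 : ∀ a ∈ yPlane γ, β a = a := fun a ha => hβ.fixed a (h a ha)
    refine Or.inr ⟨h1, fun p hp => (hγ.fixed_iff hc hγc).2 fun r hr => ?_⟩
    rw [swap_eq_inv hc, hβ.cross hc hβc hp (h1 r hr), inv_one]
  · exact Or.inl (eq_of_le_of_card_ge (fun a ha => (h a ha : a ∈ yPlane β)) (by rw [hβ.card, hγ.card])).symm

/-- Two small automorphisms in a `2`-group. -/
theorem small_pair (hq4 : q % 4 = 3) (hc : GoodForm c) : ∀ (n : ℕ) (T : Subgroup (MulAut A)), Nat.card T ≤ n →
    IsPGroup 2 T → (∀ t ∈ T, KeepsForm c t) → ∀ β ∈ T, ∀ γ ∈ T, SmallAut q β → SmallAut q γ → PlanePair β γ := by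
  intro n
  induction n with
  | zero => intro T h; have : 0 < Nat.card T := Nat.card_pos; omega
  | succ n ih =>
    intro T hn hT hTc β hβT γ hγT hβ hγ
    refine pair_of_preserves hc (hTc β hβT) (hTc γ hγT) hβ hγ ?_
    set T' := zpowers β ⊔ zpowers γ with hT'
    have hle : T' ≤ T := sup_le (zpowers_le.2 hβT) (zpowers_le.2 hγT)
    rcases eq_top_or_exists_le_coatom ((zpowers β).subgroupOf T') with h | ⟨M, hM, hMβ⟩
    · intro a ha
      have h2 : γ ∈ zpowers β :=
        subgroupOf_eq_top.1 h ((le_sup_right : zpowers γ ≤ T') (mem_zpowers γ))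
      obtain ⟨i, hi⟩ := h2
      change β ^ i = γ at hi
      refine map_plane_of_commute (fun x => ?_) ha
      have hcm : γ * (β * β) = β * β * γ := by
        rw [← hi]; exact (((Commute.refl β).mul_right (Commute.refl β)).zpow_left i).eq
      exact DFunLike.congr_fun hcm x
    · haveI : Group.IsNilpotent T' := (hT.to_le hle).isNilpotent
      haveI : M.Normal := NormalizerCondition.normal_of_coatom M Group.normalizerCondition_of_isNilpotent hM
      have hβ' : (⟨β, (le_sup_left : zpowers β ≤ T') (mem_zpowers β)⟩ : T') ∈ M :=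
        hMβ (mem_zpowers β)
      have hconj := (inferInstance : M.Normal).conj_mem _ hβ' ⟨γ, (le_sup_right : zpowers γ ≤ T') (mem_zpowers γ)⟩
      have hlt : Nat.card (M.map T'.subtype) < Nat.card T := by
        refine lt_of_lt_of_le ?_ (Nat.le_of_dvd Nat.card_pos (card_dvd_of_le hle))
        rw [← Nat.card_congr (M.equivMapOfInjective _ T'.subtype_injective).toEquiv]
        refine lt_of_le_of_ne (card_le_card_group M) fun e => hM.1 (eq_top_of_card_eq M e)
      have hpair := ih (M.map T'.subtype) (by omega) ((hT.to_le hle).to_subgroup M |>.map _)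
        (fun t ht => hTc t (hle (map_subtype_le _ ht))) β ⟨_, hβ', rfl⟩ (γ * β * γ⁻¹) ⟨_, hconj, rfl⟩ hβ (hβ.conj γ)
      intro a ha
      have hγa : γ a ∈ yPlane (γ * β * γ⁻¹) := mem_yPlane_conj.2 (by simpa using ha)
      rcases hpair with h | ⟨h1, -⟩
      · exact h ▸ hγa
      · have hperp : c a (γ a) = 1 := hβ.cross hc (hTc β hβT) ha (h1 _ hγa)
        obtain ⟨r, s, hrs, hr, hs⟩ := hγ.split hc a
        have hγr : γ r ∈ yPlane γ := by rw [mem_yPlane, mem_yPlane.1 hr, map_inv]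
        have h0 : c r (γ r) = 1 := by
          rw [hrs, map_mul γ, hs] at hperp
          simp only [map_mul, MonoidHom.mul_apply, hc.alt, hγ.cross hc (hTc γ hγT) hr hs, mul_one] at hperp
          rwa [swap_eq_inv hc (γ r) s, hγ.cross hc (hTc γ hγT) hγr hs, inv_one, mul_one] at hperp
        rw [hrs, map_mul, hγ.aniso hq4 hc (hTc γ hγT) hr h0, map_one, hs, ← hγ.aniso hq4 hc (hTc γ hγT) hr h0, ← hrs]
        exact ha

/-- A conjugate whose product with a small automorphism is an involution has the same square. -/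
theorem sq_eq_of_product (hq4 : q % 4 = 3) (hc : GoodForm c) (T : Subgroup (MulAut A)) (hT : IsPGroup 2 T)
    (hTc : ∀ t ∈ T, KeepsForm c t) {β γ : MulAut A} (hβT : β ∈ T) (hγT : γ ∈ T) (hβ : SmallAut q β)
    (hne : ∃ p ∈ yPlane β, p ≠ 1) (hprod : (γ * β) * (γ * β) = 1)
    (hγ : (∀ a, γ (γ a) = a) ∨ SmallAut q γ) (a : A) : γ (γ a) = β (β a) := by
  have hprod' : ∀ a, γ (β (γ (β a))) = a := fun a => DFunLike.congr_fun hprod a
  obtain ⟨p, hp, hp1⟩ := hne
  rcases hγ with hγ | hγ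
  · exfalso
    have hinv : ∀ a, β (γ (β a)) = γ a := fun a => by
      have := congrArg γ (hprod' a)
      rwa [hγ] at this
    have hcom : ∀ a, γ (β (β a)) = β (β (γ a)) := fun a => by
      have h1 : γ (β (β a)) = β (γ (β (β (β a)))) := (hinv _).symm
      have h2 : β (β (γ a)) = β (β (β (γ (β a)))) := by rw [hinv]
      have h3 : γ (β (β (β a))) = β (γ (β (β (β (β a))))) := (hinv _).symm
      rw [h1, h3, hβ.four]
    have hpres : ∀ a ∈ yPlane β, γ a ∈ yPlane β := fun a ha => map_plane_of_commute hcom ha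
    rcases plane_scalar hc (hTc β hβT) hβ (hTc γ hγT) hγ hpres with h | h
    · have h1 := hinv p
      rw [h p hp, h _ (show β p ∈ yPlane β by rw [mem_yPlane, mem_yPlane.1 hp, map_inv]), mem_yPlane.1 hp] at h1
      exact hp1 (eq_one_of_eq_inv hc h1.symm)
    · have h1 := hinv p
      rw [h p hp, h _ (show β p ∈ yPlane β by rw [mem_yPlane, mem_yPlane.1 hp, map_inv]), map_inv,
        mem_yPlane.1 hp, inv_inv] at h1
      exact hp1 (eq_one_of_eq_inv hc h1)
  · rcases small_pair hq4 hc _ T le_rfl hT hTc β hβT γ hγT hβ hγ with h | ⟨h1, h2⟩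
    · exact hβ.sq_eq hc (hTc β hβT) (hTc γ hγT) hγ h a
    · exfalso
      have h3 := hprod' p
      have hβp : β p ∈ yPlane β := by rw [mem_yPlane, mem_yPlane.1 hp, map_inv]
      rw [h2 _ hβp, mem_yPlane.1 hp, h2 _ (inv_mem hp)] at h3
      exact hp1 (eq_one_of_eq_inv hc h3.symm)

/-- Conjugation by a quotient of two small automorphisms fixes the square. -/
theorem sq_eq_of_quotient (hq4 : q % 4 = 3) (hc : GoodForm c) (T : Subgroup (MulAut A)) (hT : IsPGroup 2 T)
    (hTc : ∀ t ∈ T, KeepsForm c t) {β α : MulAut A} (hβT : β ∈ T) (hαT : α ∈ T) (hβ : SmallAut q β)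
    (hα : SmallAut q α) (a : A) : (α * β⁻¹)⁻¹ (β (β ((α * β⁻¹) a))) = β (β a) := by
  set ε := α * β⁻¹ with hε
  have hεT : ε ∈ T := mul_mem hαT (inv_mem hβT)
  have hpres : ∀ p ∈ yPlane β, ε p ∈ yPlane β := by
    intro p hp
    have hp' : β⁻¹ p ∈ yPlane β := by
      rw [mem_yPlane, MulAut.inv_apply, MulEquiv.apply_symm_apply]
      apply β.injective
      rw [mem_yPlane.1 hp, map_inv, MulEquiv.apply_symm_apply]
    show α (β⁻¹ p) ∈ yPlane β
    rcases small_pair hq4 hc _ T le_rfl hT hTc β hβT α hαT hβ hα with h | ⟨-, h⟩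
    · rw [h] at hp' ⊢
      rw [mem_yPlane, mem_yPlane.1 hp', map_inv]
    · rw [h _ hp']; exact hp'
  have hε' : SmallAut q (ε * β * ε⁻¹) := hβ.conj ε
  have heq : yPlane β = yPlane (ε * β * ε⁻¹) := by
    refine eq_of_le_of_card_ge (fun p hp => mem_yPlane_conj.2 ?_) (by rw [hβ.card, hε'.card])
    have hmap : (yPlane β).map ε.toMonoidHom = yPlane β :=
      eq_of_le_of_card_ge (by rintro _ ⟨x, hx, rfl⟩; exact hpres x hx)
        (le_of_eq (Nat.card_congr ((yPlane β).equivMapOfInjective _ ε.injective).toEquiv))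
    obtain ⟨x, hx, hxe⟩ := hmap.ge hp
    rwa [← hxe, MulAut.inv_apply, MulEquiv.coe_toMonoidHom, MulEquiv.symm_apply_apply]
  have h := hβ.sq_eq hc (hTc β hβT) (hTc _ (mul_mem (mul_mem hεT hβT) (inv_mem hεT))) hε' heq (ε a)
  simp only [MulAut.mul_apply, MulAut.inv_apply, MulEquiv.symm_apply_apply] at h
  rw [MulAut.inv_apply, ← h, MulEquiv.symm_apply_apply]

end Cfsg.Lib.TwoLength
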