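import Mathlib
import Cfsg.Agent.TwoLength.Small

/-!
The form given on a group of class two by a linear character of its centre, and the action of the
stabilizer of the character.
-/

set_option linter.style.haveILetI false
set_option linter.unusedSectionVars false

namespace Cfsg.Lib.TwoLength

open Subgroup
open scoped commutatorElement

universe u v

variable {H : Type u} [Group H] [Finite H] (Q : Subgroup H)

/-- The centre, inside the ambient group. -/
abbrev cenIn : Subgroup H := Q ⊓ centralizer (Q : Set H)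

/-- The commutators are central. -/
def ClassTwo : Prop := ∀ a ∈ Q, ∀ b ∈ Q, ⁅a, b⁆ ∈ cenIn Q

variable {Q}

theorem cen_comm {z : H} (hz : z ∈ cenIn Q) {a : H} (ha : a ∈ Q) : a * z = z * a :=
  mem_centralizer_iff.1 hz.2 a ha

theorem cen_conj {m : H} (hm : m ∈ normalizer (Q : Set H)) {z : H} (hz : z ∈ cenIn Q) : m * z * m⁻¹ ∈ cenIn Q := by
  refine ⟨(mem_normalizer_iff.1 hm z).1 hz.1, mem_centralizer_iff.2 fun b hb => ?_⟩
  have hb' : m⁻¹ * b * m ∈ Q := (mem_normalizer_iff''.1 hm b).1 hb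
  calc b * (m * z * m⁻¹) = m * ((m⁻¹ * b * m) * z) * m⁻¹ := by group
    _ = m * (z * (m⁻¹ * b * m)) * m⁻¹ := by rw [cen_comm hz hb']
    _ = m * z * m⁻¹ * b := by group

variable {C : Type v} [CommGroup C] [hQ2 : Fact (ClassTwo Q)] (χ : cenIn Q →* C)

/-- The value of the character on a commutator. -/
def comVal (a b : Q) : C := χ ⟨⁅(a : H), (b : H)⁆, hQ2.out a a.2 b b.2⟩

theorem comVal_mul_left (a a' b : Q) : comVal χ (a * a') b = comVal χ a b * comVal χ a' b := by
  rw [comVal, comVal, comVal, ← map_mul]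
  congr 1
  refine Subtype.ext ?_
  show ⁅(a : H) * a', (b : H)⁆ = ⁅(a : H), (b : H)⁆ * ⁅(a' : H), (b : H)⁆
  have h : (a : H) * ⁅(a' : H), (b : H)⁆ = ⁅(a' : H), (b : H)⁆ * a := cen_comm (hQ2.out a' a'.2 b b.2) a.2
  have h2 : ⁅(a : H), (b : H)⁆ * ⁅(a' : H), (b : H)⁆ = ⁅(a' : H), (b : H)⁆ * ⁅(a : H), (b : H)⁆ :=
    cen_comm (hQ2.out a' a'.2 b b.2) (hQ2.out a a.2 b b.2).1
  rw [h2, show ⁅(a : H) * a', (b : H)⁆ = (a * ⁅(a' : H), (b : H)⁆) * (a : H)⁻¹ * ⁅(a : H), (b : H)⁆ by
    simp only [commutatorElement_def]; group, h]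
  group

theorem comVal_swap (a b : Q) : comVal χ b a = (comVal χ a b)⁻¹ := by
  rw [comVal, comVal, ← map_inv]
  congr 1
  refine Subtype.ext ?_
  show ⁅(b : H), (a : H)⁆ = ⁅(a : H), (b : H)⁆⁻¹
  rw [commutatorElement_inv]

theorem comVal_mul_right (a b b' : Q) : comVal χ a (b * b') = comVal χ a b * comVal χ a b' := by
  rw [comVal_swap χ (b * b') a, comVal_mul_left, mul_inv, ← comVal_swap, ← comVal_swap]

/-- The commutator pairing. -/
def pairing : Q →* Q →* C :=
  MonoidHom.mk' (fun a => MonoidHom.mk' (comVal χ a) (comVal_mul_right χ a))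
    fun a a' => MonoidHom.ext (comVal_mul_left χ a a')

theorem pairing_apply (a b : Q) : pairing χ a b = comVal χ a b := rfl

/-- The quotient by the radical. -/
abbrev CharQuot := Q ⧸ (pairing χ).ker

theorem mem_radical {a : Q} : a ∈ (pairing χ).ker ↔ ∀ b, comVal χ a b = 1 :=
  ⟨fun h b => DFunLike.congr_fun (MonoidHom.mem_ker.1 h) b, fun h => MonoidHom.ext h⟩

instance : CommGroup (CharQuot χ) where
  mul_comm := by
    rintro ⟨a⟩ ⟨b⟩
    refine QuotientGroup.eq.2 ((mem_radical χ).2 fun c => ?_)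
    rw [comVal_mul_left, comVal_mul_left, comVal_swap χ c (a * b)⁻¹]
    rw [show comVal χ c (a * b)⁻¹ = (comVal χ c (a * b))⁻¹ from map_inv (pairing χ c) _, inv_inv,
      comVal_mul_right, comVal_swap χ b c, comVal_swap χ a c]
    simp [mul_assoc]

/-- The pairing on the second variable. -/
def formRight (a : Q) : CharQuot χ →* C :=
  QuotientGroup.lift _ (pairing χ a) fun b hb => by
    show comVal χ a b = 1
    rw [comVal_swap, (mem_radical χ).1 hb, inv_one]

/-- The form on the quotient. -/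
def formQuot : CharQuot χ →* CharQuot χ →* C :=
  QuotientGroup.lift _
    (MonoidHom.mk' (formRight χ) fun a a' => MonoidHom.ext fun x => by
      obtain ⟨b, rfl⟩ := QuotientGroup.mk_surjective x
      exact comVal_mul_left χ a a' b)
    fun a ha => MonoidHom.ext fun x => by
      obtain ⟨b, rfl⟩ := QuotientGroup.mk_surjective x
      exact (mem_radical χ).1 ha b

theorem formQuot_mk (a b : Q) : formQuot χ (QuotientGroup.mk a) (QuotientGroup.mk b) = comVal χ a b := rfl

theorem goodForm (hodd : Odd (Nat.card Q)) : GoodForm (formQuot χ) where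
  odd := hodd.of_dvd_nat (card_quotient_dvd_card _)
  alt := by
    rintro ⟨a⟩
    show comVal χ a a = 1
    rw [comVal, ← map_one χ]
    congr 1
    exact Subtype.ext (commutatorElement_self _)
  nondeg := by
    rintro ⟨a⟩ h
    exact (QuotientGroup.eq_one_iff a).2 ((mem_radical χ).2 fun b => h (QuotientGroup.mk b))

/-- The stabilizer of the character in the normalizer. -/
def stabChar : Subgroup H :=
  let S : Submonoid H :=
    { carrier := {m | ∃ hm : m ∈ normalizer (Q : Set H), ∀ z : cenIn Q, χ ⟨m * z * m⁻¹, cen_conj hm z.2⟩ = χ z}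
      one_mem' := ⟨one_mem _, fun z => by congr 1; exact Subtype.ext (by simp)⟩
      mul_mem' := by
        rintro a b ⟨ha, ha'⟩ ⟨hb, hb'⟩
        refine ⟨mul_mem ha hb, fun z => ?_⟩
        rw [← hb' z, ← ha' ⟨b * z * b⁻¹, cen_conj hb z.2⟩]
        congr 1
        exact Subtype.ext (by show a * b * (z : H) * (a * b)⁻¹ = a * (b * z * b⁻¹) * a⁻¹; group) }
  { S with
    inv_mem' := fun {m} hm => by
      have h : m⁻¹ = m ^ (orderOf m - 1) := inv_eq_of_mul_eq_one_left (by
        rw [← pow_succ, Nat.sub_add_cancel (orderOf_pos m), pow_orderOf_eq_one])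
      show m⁻¹ ∈ S
      exact h ▸ pow_mem (show m ∈ S from hm) _ }

theorem mem_stabChar {m : H} :
    m ∈ stabChar χ ↔ ∃ hm : m ∈ normalizer (Q : Set H), ∀ z : cenIn Q, χ ⟨m * z * m⁻¹, cen_conj hm z.2⟩ = χ z :=
  Iff.rfl

theorem stabChar_le : stabChar χ ≤ normalizer (Q : Set H) := fun _ h => h.1

/-- Conjugation on the group, from the stabilizer. -/
def stabConj : stabChar χ →* MulAut Q :=
  Q.normalizerMonoidHom.comp (Subgroup.inclusion (stabChar_le χ))

theorem stabConj_apply (m : stabChar χ) (a : Q) : ((stabConj χ m a : Q) : H) = m * a * (m : H)⁻¹ := rfl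

theorem comVal_conj (m : stabChar χ) (a b : Q) : comVal χ (stabConj χ m a) (stabConj χ m b) = comVal χ a b := by
  obtain ⟨hm, h⟩ := m.2
  rw [comVal, comVal, ← h ⟨⁅(a : H), (b : H)⁆, hQ2.out a a.2 b b.2⟩]
  congr 1
  refine Subtype.ext ?_
  show ⁅((stabConj χ m a : Q) : H), ((stabConj χ m b : Q) : H)⁆ = m * ⁅(a : H), (b : H)⁆ * (m : H)⁻¹
  rw [stabConj_apply, stabConj_apply]
  simp only [commutatorElement_def]
  group

theorem map_radical (m : stabChar χ) : (pairing χ).ker.map (stabConj χ m : Q →* Q) = (pairing χ).ker := by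
  refine Subgroup.eq_of_le_of_card_ge ?_
    (le_of_eq (Nat.card_congr ((pairing χ).ker.equivMapOfInjective _ (stabConj χ m).injective).toEquiv))
  rintro _ ⟨a, ha, rfl⟩
  refine (mem_radical χ).2 fun b => ?_
  obtain ⟨b, rfl⟩ := (stabConj χ m).surjective b
  exact (comVal_conj χ m a b).trans ((mem_radical χ).1 ha b)

/-- The action on the quotient. -/
def actQuot : stabChar χ →* MulAut (CharQuot χ) where
  toFun m := QuotientGroup.congr _ _ (stabConj χ m) (map_radical χ m)
  map_one' := MulEquiv.ext fun x => by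
    obtain ⟨a, rfl⟩ := QuotientGroup.mk_surjective x
    rw [QuotientGroup.congr_mk, map_one]; rfl
  map_mul' m m' := MulEquiv.ext fun x => by
    obtain ⟨a, rfl⟩ := QuotientGroup.mk_surjective x
    rw [MulAut.mul_apply, QuotientGroup.congr_mk, QuotientGroup.congr_mk, QuotientGroup.congr_mk, map_mul]; rfl

theorem actQuot_mk (m : stabChar χ) (a : Q) :
    actQuot χ m (QuotientGroup.mk a) = QuotientGroup.mk (stabConj χ m a) :=
  QuotientGroup.congr_mk _ _ (stabConj χ m) (map_radical χ m) _

theorem actQuot_keeps (m : stabChar χ) : KeepsForm (formQuot χ) (actQuot χ m) := by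
  rintro ⟨a⟩ ⟨b⟩
  exact comVal_conj χ m a b

theorem actQuot_eq_one_iff (m : stabChar χ) :
    actQuot χ m = 1 ↔ ∀ a b : Q, comVal χ (stabConj χ m a * a⁻¹) b = 1 := by
  constructor
  · intro h a b
    have h1 : (QuotientGroup.mk (stabConj χ m a) : CharQuot χ) = QuotientGroup.mk a := by
      rw [← actQuot_mk, h]; rfl
    have h2 : stabConj χ m a * a⁻¹ ∈ (pairing χ).ker := (inferInstance : (pairing χ).ker.Normal).mem_comm (by
      simpa using inv_mem (QuotientGroup.eq.1 h1))
    exact (mem_radical χ).1 h2 b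
  · intro h
    refine MulEquiv.ext fun x => ?_
    obtain ⟨a, rfl⟩ := QuotientGroup.mk_surjective x
    rw [actQuot_mk]
    refine QuotientGroup.eq.2 ((inferInstance : (pairing χ).ker.Normal).mem_comm ?_)
    simpa using inv_mem ((mem_radical χ).2 (h a))

end Cfsg.Lib.TwoLength
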