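import Mathlib
import Cfsg.Agent.HallHigman.ExceptionalSupport
import Cfsg.Agent.TwoLength.Small

/-!
An element of two-power order with small degree over characteristic two, on a group with non-degenerate
commutator form: where its involution acts non-trivially it moves only one plane.
-/

set_option linter.style.haveILetI false
set_option linter.unusedSectionVars false

namespace Cfsg.Lib.TwoLength

open Module Subgroup Cfsg.Lib.HallHigman

universe u v w z

theorem mersenne_power {q n b : ℕ} (hq : q.Prime) (hn : 2 ≤ n) (h : 2 ^ n - 1 = q ^ b) : b = 1 ∧ q % 4 = 3 := by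
  have h4 : q ^ b % 4 = 3 := by
    obtain ⟨m, rfl⟩ : ∃ m, n = m + 2 := ⟨n - 2, by omega⟩
    have : 1 ≤ 2 ^ m := Nat.one_le_two_pow
    rw [← h, pow_add]; omega
  have hb : Odd b := by
    by_contra hb
    obtain ⟨c, rfl⟩ := Nat.not_odd_iff_even.1 hb
    rw [pow_add, Nat.mul_mod] at h4
    have := Nat.mod_lt (q ^ c) (show 4 > 0 by norm_num)
    interval_cases (q ^ c % 4) <;> simp_all
  have hq4 : q % 4 = 3 := by
    obtain ⟨c, rfl⟩ := hb
    rw [pow_succ, two_mul, pow_add, Nat.mul_mod, Nat.mul_mod (q ^ c)] at h4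
    have := Nat.mod_lt (q ^ c) (show 4 > 0 by norm_num)
    have := Nat.mod_lt q (show 4 > 0 by norm_num)
    interval_cases (q ^ c % 4) <;> interval_cases (q % 4) <;> simp_all
  refine ⟨?_, hq4⟩
  set S : ℤ := ∑ i ∈ Finset.range b, (-(q : ℤ)) ^ i
  have hS : S * ((q : ℤ) + 1) = (2 : ℤ) ^ n := by
    have h1 := geom_sum_mul (-(q : ℤ)) b
    rw [hb.neg_pow] at h1
    have h2 : ((q ^ b : ℕ) : ℤ) + 1 = (2 : ℤ) ^ n := by
      have : q ^ b + 1 = 2 ^ n := by have := Nat.one_le_two_pow (n := n); omega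
      exact_mod_cast this
    push_cast at h2
    linear_combination -h1 + h2
  have hSodd : ¬ (2 : ℤ) ∣ S := by
    intro h2
    have h3 := (ZMod.intCast_zmod_eq_zero_iff_dvd S 2).2 h2
    have hq2 : (q : ZMod 2) = 1 := by
      rw [← ZMod.natCast_mod q 2, show q % 2 = 1 by omega, Nat.cast_one]
    have hneg : (-1 : ZMod 2) = 1 := by decide
    push_cast [S] at h3
    simp only [hq2, hneg, one_pow, Finset.sum_const, Finset.card_range, nsmul_eq_mul, mul_one] at h3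
    rw [← ZMod.natCast_mod b 2, Nat.odd_iff.1 hb, Nat.cast_one] at h3
    exact one_ne_zero h3
  have hS1 : S.natAbs = 1 := by
    obtain ⟨i, -, hi⟩ := (Nat.dvd_prime_pow Nat.prime_two).1
      (show S.natAbs ∣ 2 ^ n from by
        have := Int.natAbs_dvd_natAbs.2 (Dvd.intro _ hS)
        simpa [Int.natAbs_pow] using this)
    rcases Nat.eq_zero_or_pos i with rfl | hi0
    · simpa using hi
    · exact absurd (Int.natCast_dvd.2 (hi ▸ dvd_pow_self 2 hi0.ne') : (2 : ℤ) ∣ S) hSodd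
  have h5 : (S.natAbs : ℕ) * (q + 1) = 2 ^ n := by
    have := congrArg Int.natAbs hS
    rw [Int.natAbs_mul, Int.natAbs_pow] at this
    exact_mod_cast this
  rw [hS1, one_mul] at h5
  have h6 : q ^ b = q ^ 1 := by have := Nat.one_le_two_pow (n := n); rw [pow_one]; omega
  exact Nat.pow_right_injective hq.two_le h6

variable {K : Type u} [Field K] [IsAlgClosed K] [CharP K 2] {U : Type v} [AddCommGroup U] [Module K U]
  [FiniteDimensional K U] [Nontrivial U] {G : Type w} [Group G] [Finite G] {q : ℕ} [Fact q.Prime]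
  {A : Type z} [CommGroup A] [Finite A]

theorem natCast_odd {m : ℕ} (h : Odd m) : (m : K) = 1 := by
  obtain ⟨j, rfl⟩ := h
  rw [Nat.cast_add, Nat.cast_mul, CharP.cast_eq_zero K 2, zero_mul, zero_add, Nat.cast_one]

/-- Where the involution acts non-trivially, the element moves only a plane of order `q ^ 2`. -/
theorem local_support (hq2 : q ≠ 2) (ρ : G →* Module.End K U) (Q : Subgroup G) [Q.Normal] (hQ : IsPGroup q Q)
    (π : Q →* A) (hπ : Function.Surjective π) (c : A →* A →* Kˣ) (hc : GoodForm c)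
    (hcc : ∀ a b : Q, ρ a * ρ b = (c (π a) (π b) : K) • (ρ b * ρ a))
    (hker : ∀ a : Q, π a = 1 → ∃ r : K, ρ a = r • 1)
    (X : G) (T : MulAut A) (hTc : KeepsForm c T) (hT : ∀ a : Q, π (MulAut.conjNormal X a) = T (π a))
    (n : ℕ) (hn : 2 ≤ n) (hX : X ^ 2 ^ n = 1) (hdeg : (ρ X - 1) ^ (2 ^ n - 1) = 0)
    (hne : T ^ 2 ^ (n - 1) ≠ 1) :
    q % 4 = 3 ∧ SmallAut q (T ^ 2 ^ (n - 2)) := by
  classical
  have hq : q.Prime := Fact.out
  haveI : Fact (Nat.Prime 2) := ⟨Nat.prime_two⟩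
  have hqK : (q : K) ≠ 0 := fun h =>
    hq2 ((Nat.prime_dvd_prime_iff_eq Nat.prime_two hq).1 ((CharP.cast_eq_zero_iff K 2 q).1 h)).symm
  set β := T ^ 2 ^ (n - 2) with hβ
  have hββ : β * β = T ^ 2 ^ (n - 1) := by
    rw [hβ, ← pow_add, ← two_mul, ← pow_succ', show n - 2 + 1 = n - 1 by omega]
  have hTpow : ∀ (i : ℕ) (a : Q), π (MulAut.conjNormal (X ^ i) a) = (T ^ i) (π a) := by
    intro i
    induction i with
    | zero => intro a; simp
    | succ i ih => intro a; rw [pow_succ', map_mul, MulAut.mul_apply, hT, ih, pow_succ', MulAut.mul_apply]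
  have hTN : T ^ 2 ^ n = 1 := MulEquiv.ext fun a => by
    obtain ⟨a, rfl⟩ := hπ a
    rw [← hTpow, hX, map_one]; rfl
  have hfour : ∀ a, β (β (β (β a))) = a := fun a => by
    have h : β * β * (β * β) = 1 := by
      rw [hββ, ← pow_add, ← two_mul, ← pow_succ', show n - 1 + 1 = n by omega, hTN]
    exact DFunLike.congr_fun h a
  have hβc : KeepsForm c β := by
    have : ∀ i : ℕ, KeepsForm c (T ^ i) := fun i => by
      induction i with
      | zero => intro a b; rfl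
      | succ i ih => intro a b; rw [pow_succ', MulAut.mul_apply, MulAut.mul_apply, hTc, ih]
    exact this _
  -- a scalar operator comes only from the radical
  have hscal : ∀ (s : Q) (r : K), ρ s = r • 1 → π s = 1 := by
    intro s r hr
    refine hc.nondeg _ fun b => ?_
    obtain ⟨b, rfl⟩ := hπ b
    have h1 := hcc s b
    rw [hr, smul_mul_assoc, one_mul, mul_smul_comm, mul_one, smul_smul] at h1
    have hρb : ρ b ≠ 0 := fun h => one_ne_zero (α := Module.End K U) (by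
      rw [← map_one ρ, ← mul_inv_cancel (b : G), map_mul, h, zero_mul])
    have hr0 : r ≠ 0 := fun h => one_ne_zero (α := Module.End K U) (by
      rw [← map_one ρ, ← mul_inv_cancel (s : G), map_mul, hr, h, zero_smul, zero_mul])
    have h2 : r = c (π s) (π b) * r := smul_left_injective K hρb h1
    exact Units.ext (mul_eq_right₀ hr0 |>.1 h2.symm)
  set P := yPlane β with hP
  have hTP : ∀ a ∈ P, T a ∈ P := fun a ha => by
    have hcm : T * (β * β) = β * β * T := by rw [hββ, ← pow_succ, ← pow_succ']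
    exact map_plane_of_commute (fun x => DFunLike.congr_fun hcm x) ha
  set Q₀ := (P.comap π).map Q.subtype with hQ₀
  have hmem₀ : ∀ g, g ∈ Q₀ ↔ ∃ hg : g ∈ Q, π ⟨g, hg⟩ ∈ P := fun g =>
    ⟨by rintro ⟨⟨g, hg⟩, h, rfl⟩; exact ⟨hg, h⟩, fun ⟨hg, h⟩ => ⟨⟨g, hg⟩, h, rfl⟩⟩
  set G₀ := Q₀ ⊔ zpowers X with hG₀
  have hX₀ : X ∈ normalizer (Q₀ : Set G) := mem_normalizer_of_conj_le fun g hg => by
    obtain ⟨hg, h⟩ := (hmem₀ g).1 hg
    refine (hmem₀ _).2 ⟨(inferInstance : Q.Normal).conj_mem g hg X, ?_⟩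
    have h1 := hTP _ h
    rw [← hT] at h1
    exact h1
  set Q₁ := Q₀.subgroupOf G₀ with hQ₁
  haveI : Q₁.Normal := normal_subgroupOf_of_le_normalizer (sup_le le_normalizer (zpowers_le.2 hX₀))
  have hQ₁p : IsPGroup q Q₁ := (hQ.to_le (map_subtype_le _)).comap_of_injective _ G₀.subtype_injective
  let π₁ : Q₁ →* A := π.comp
    { toFun := fun u => ⟨((u : G₀) : G), ((hmem₀ _).1 u.2).1⟩
      map_one' := rfl
      map_mul' := fun _ _ => rfl }
  have hπ₁P : ∀ u : Q₁, π₁ u ∈ P := fun u => ((hmem₀ _).1 u.2).2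
  have hliftP : ∀ a ∈ P, ∃ u : Q₁, π₁ u = a := fun a ha => by
    obtain ⟨s, rfl⟩ := hπ a
    exact ⟨⟨⟨s, (le_sup_left : Q₀ ≤ G₀) ((hmem₀ _).2 ⟨s.2, ha⟩)⟩, (hmem₀ _).2 ⟨s.2, ha⟩⟩, rfl⟩
  let ρ₀ : G₀ →* Module.End K U := ρ.comp G₀.subtype
  let X₀ : G₀ := ⟨X, (le_sup_right : zpowers X ≤ G₀) (mem_zpowers X)⟩
  have hX₀n : X₀ ^ 2 ^ n = 1 := Subtype.ext hX
  have hiff : ∀ u : Q₁, ((u : G₀) ∈ (adRep ρ₀).ker ↔ π₁ u = 1) := fun u =>
    (mem_ker_adRep_iff ρ₀ u).trans ⟨fun ⟨r, hr⟩ => hscal _ r hr, fun h => hker _ h⟩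
  have hTy : ∀ u : Q₁, ∀ i : ℕ, π₁ ⟨X₀ ^ i * u * (X₀ ^ i)⁻¹ * (u : G₀)⁻¹,
      mul_mem ((inferInstance : Q₁.Normal).conj_mem _ u.2 _) (inv_mem u.2)⟩ = (T ^ i) (π₁ u) * (π₁ u)⁻¹ := by
    intro u i
    show π _ = (T ^ i) (π _) * (π _)⁻¹
    rw [← hTpow, ← map_inv, ← map_mul]
    rfl
  have hfixP : ∀ u : Q₁, (T ^ 2 ^ (n - 1)) (π₁ u) = π₁ u → π₁ u = 1 := fun u h => by
    refine eq_one_of_eq_inv hc ?_
    nth_rw 1 [← h]
    rw [← hββ]
    exact hπ₁P u
  obtain ⟨a₀, ha₀, ha₀1⟩ : ∃ a ∈ P, a ≠ 1 := by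
    by_contra hh
    push Not at hh
    refine hne (MulEquiv.ext fun a => ?_)
    obtain ⟨p, r, rfl, hp, hr⟩ := exists_split hc (β * β) (fun a => by simp [hfour]) a
    show (T ^ 2 ^ (n - 1)) (p * r) = p * r
    rw [← hββ, map_mul, hr, hh p hp, map_one]
  -- the order of the plane
  have htop : Q₁ ⊔ zpowers X₀ = ⊤ := by
    refine map_injective G₀.subtype_injective ?_
    rw [Subgroup.map_sup, MonoidHom.map_zpowers, ← MonoidHom.range_eq_map, range_subtype, hQ₁,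
      map_subgroupOf_eq_of_le le_sup_left]
    rfl
  obtain ⟨b, -, hb, hcard⟩ := support_card (p := 2) (n := n) (q := q) hq2 ρ₀ Q₁ hQ₁p X₀ htop (by omega) hX₀n
    (fun u hu w hw => ⟨_, hcc ⟨_, ((hmem₀ _).1 hu).1⟩ ⟨_, ((hmem₀ _).1 hw).1⟩⟩)
    (fun u hu h => by
      have h1 := (hiff ⟨_, mul_mem ((inferInstance : Q₁.Normal).conj_mem _ hu _) (inv_mem hu)⟩).1 h
      rw [hTy ⟨u, hu⟩] at h1
      exact (hiff ⟨u, hu⟩).2 (hfixP _ (mul_inv_eq_one.1 h1)))
    (by
      obtain ⟨u, hu⟩ := hliftP a₀ ha₀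
      exact ⟨u, u.2, fun h => ha₀1 (hu ▸ (hiff u).1 h)⟩)
    hdeg
  obtain ⟨rfl, hq4⟩ := mersenne_power hq hn hb
  have hNq : 2 ^ n - 1 = q := hb.trans (pow_one q)
  have hcardP : Nat.card P = q ^ 2 := by
    let g : Q₁ →* (Module.End K (Module.End K U))ˣ := (adRep ρ₀).toHomUnits.comp Q₁.subtype
    have hgk : g.ker = π₁.ker := Subgroup.ext fun u => by
      rw [MonoidHom.mem_ker, MonoidHom.mem_ker, ← hiff u, MonoidHom.mem_ker, Units.ext_iff]; rfl
    have hgr : g.range = Q₁.map (adRep ρ₀).toHomUnits := by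
      rw [MonoidHom.range_comp, range_subtype]
    have hπr : π₁.range = P := le_antisymm (by rintro _ ⟨u, rfl⟩; exact hπ₁P u)
      (fun a ha => (hliftP a ha).imp fun _ h => h)
    have h1 := Nat.card_congr (QuotientGroup.quotientKerEquivRange g).toEquiv
    have h2 := Nat.card_congr (QuotientGroup.quotientKerEquivRange π₁).toEquiv
    rw [hgk, hgr, h2, hπr, hcard] at h1
    simpa using h1
  refine ⟨hq4, ⟨hfour, ?_, hcardP⟩⟩
  intro a ha
  suffices hTa : T a = a by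
    have : ∀ i : ℕ, (T ^ i) a = a := fun i => by
      induction i with
      | zero => rfl
      | succ i ih => rw [pow_succ', MulAut.mul_apply, ih, hTa]
    exact this _
  -- an irreducible constituent
  let ρu : G₀ →* (Module.End K U)ˣ := ρ₀.toHomUnits
  set Qb := Q₁.map ρu
  haveI : Finite Qb := .of_surjective (fun r : Q₁ => (⟨ρu r, r, r.2, rfl⟩ : Qb))
      fun ⟨_, r, hr, e⟩ => ⟨⟨r, hr⟩, Subtype.ext e⟩
  let ρb : Qb →* Module.End K U := (Units.coeHom (Module.End K U)).comp Qb.subtype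
  have hQbK : ((Nat.card Qb : ℕ) : K) ≠ 0 := by
    obtain ⟨m, hm⟩ := IsPGroup.iff_card.1 (hQ₁p.map ρu)
    rw [hm, Nat.cast_pow]
    exact pow_ne_zero _ hqK
  have hcrossP : ∀ p r, p ∈ P → β (β r) = r → c p r = 1 := fun p r hp hr =>
    cross_eq_one hc (β * β) (sq_keeps hβc) hp hr
  have hcP : ∀ u : Q₁, (∀ w : Q₁, c (π₁ u) (π₁ w) = 1) → π₁ u = 1 := fun u h => hc.nondeg _ fun a => by
    obtain ⟨p, r, rfl, hp, hr⟩ := exists_split hc (β * β) (fun a => by simp [hfour]) a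
    obtain ⟨w, rfl⟩ := hliftP p hp
    rw [map_mul, h w, hcrossP _ _ (hπ₁P u) hr, one_mul]
  have hcen : ∀ z ∈ center Qb, ∃ r : K, ρb z = r • 1 := by
    rintro ⟨_, u, hu, rfl⟩ hz
    refine hker _ (hcP ⟨u, hu⟩ fun w => ?_)
    have h1 : ρ₀ (w : G₀) * ρ₀ u = ρ₀ u * ρ₀ (w : G₀) :=
      congrArg (fun g : Qb => ρb g) (mem_center_iff.1 hz ⟨_, w, w.2, rfl⟩)
    have h2 : ρ₀ u * ρ₀ (w : G₀) = (c (π₁ ⟨u, hu⟩) (π₁ w) : K) • (ρ₀ (w : G₀) * ρ₀ u) :=
      hcc ⟨_, ((hmem₀ _).1 hu).1⟩ ⟨_, ((hmem₀ _).1 w.2).1⟩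
    rw [h1] at h2
    refine Units.ext (smul_left_injective K (?_ : ρ₀ u * ρ₀ (w : G₀) ≠ 0) (h2.symm.trans (one_smul K _).symm))
    rw [← map_mul]
    exact fun h => one_ne_zero (α := Module.End K U) (by
      rw [← map_one ρ₀, ← mul_inv_cancel (u * (w : G₀)), map_mul, h, zero_mul])
  have hpair : ∀ z : Qb, z ∉ center Qb → ∃ (w : Qb) (r : K), r ≠ 1 ∧ ρb z * ρb w = r • (ρb w * ρb z) := by
    intro z hz
    rw [mem_center_iff] at hz
    push Not at hz
    obtain ⟨w, hw⟩ := hz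
    obtain ⟨_, u, hu, rfl⟩ := z
    obtain ⟨_, s, hs, rfl⟩ := w
    have he : ρ₀ u * ρ₀ s = (c (π₁ ⟨u, hu⟩) (π₁ ⟨s, hs⟩) : K) • (ρ₀ s * ρ₀ u) :=
      hcc ⟨_, ((hmem₀ _).1 hu).1⟩ ⟨_, ((hmem₀ _).1 hs).1⟩
    refine ⟨⟨_, s, hs, rfl⟩, _, fun h1 => hw (Subtype.ext (Units.ext ?_)), he⟩
    rw [h1, one_smul] at he
    exact he.symm
  have hσQ : ∀ z : Qb, ρu X₀ * (z : (Module.End K U)ˣ) * (ρu X₀)⁻¹ ∈ Qb := by
    rintro ⟨_, s, hs, rfl⟩
    exact ⟨X₀ * s * X₀⁻¹, (inferInstance : Q₁.Normal).conj_mem s hs X₀, by rw [map_mul, map_mul, map_inv]⟩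
  obtain ⟨W, hW0, hWQ, hWX, hWmin, hWns⟩ := exists_invariant_irreducible (p := 2) (n := n) ρb hQbK hcen hpair
    (ρ₀ X₀) (by rw [← map_pow, hX₀n, map_one]) (fun z => ⟨_, hσQ z⟩) fun z => by
      show ρ₀ X₀ * _ = ((ρu X₀ * (z : (Module.End K U)ˣ) * (ρu X₀)⁻¹ : (Module.End K U)ˣ) : Module.End K U) * ρ₀ X₀
      rw [show ρ₀ X₀ = (ρu X₀ : Module.End K U) from rfl, ← Units.val_mul, inv_mul_cancel_right]
      rfl
  have hWall : ∀ g : G₀, ∀ w ∈ W, ρ₀ g w ∈ W := by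
    intro g
    have hle : Q₁ ⊔ zpowers X₀ ≤ stabSub ρ₀ W :=
      sup_le (fun u hu => hWQ ⟨ρu u, u, hu, rfl⟩) (zpowers_le.2 hWX)
    exact hle (htop ▸ mem_top g)
  let ρW := restrictRep ρ₀ W hWall
  haveI : Nontrivial W := Submodule.nontrivial_iff_ne_bot.2 hW0
  have hscalW : ∀ u : Q₁, (∃ r : K, ρW u = r • 1) → π₁ u = 1 := by
    rintro u ⟨r, hr⟩
    by_contra hns
    refine hWns ⟨ρu u, u, u.2, rfl⟩ (fun hz => ?_) ⟨r, fun w hw => congrArg Subtype.val (LinearMap.congr_fun hr ⟨w, hw⟩)⟩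
    obtain ⟨r', hr'⟩ := hcen _ hz
    exact hns (hscal _ r' hr')
  have hd : 2 ≤ finrank K W := by
    by_contra hh
    have h1 : finrank K W = 1 := by have := finrank_pos (R := K) (M := W); omega
    obtain ⟨u, hu⟩ := hliftP a₀ ha₀
    refine ha₀1 (hu ▸ hscalW u ?_)
    obtain ⟨e, he, hspan⟩ := finrank_eq_one_iff'.1 h1
    obtain ⟨μ, hμ⟩ := hspan (ρW u e)
    exact ⟨μ, LinearMap.ext fun w => by
      obtain ⟨t, rfl⟩ := hspan w
      rw [map_smul, ← hμ, LinearMap.smul_apply, Module.End.one_apply, smul_comm]⟩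
  have hkerW : ∀ u : Q₁, (u : G₀) ∈ (adRep ρW).ker → π₁ u = 1 := fun u h =>
    hscalW u ((mem_ker_adRep_iff ρW u).1 h)
  have hfree : ∀ i, 0 < i → i < 2 ^ n → ∀ u ∈ Q₁, X₀ ^ i * u * (X₀ ^ i)⁻¹ * u⁻¹ ∈ (adRep ρW).ker →
      u ∈ (adRep ρW).ker := by
    intro i hi0 hi u hu hker'
    have h1 := hkerW ⟨_, mul_mem ((inferInstance : Q₁.Normal).conj_mem _ hu _) (inv_mem hu)⟩ hker'
    rw [hTy ⟨u, hu⟩, mul_inv_eq_one] at h1
    obtain ⟨j, i', hi', hij⟩ := Nat.exists_eq_pow_mul_and_not_dvd hi0.ne' 2 (by norm_num)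
    have hjn : j < n := (Nat.pow_lt_pow_iff_right (by norm_num : 1 < 2)).1 (lt_of_le_of_lt (by
      rw [hij]; exact Nat.le_mul_of_pos_right _ (Nat.pos_of_ne_zero fun h => hi' (h ▸ dvd_zero 2))) hi)
    obtain ⟨l, hl⟩ : ∃ l, (T ^ i) ^ l = T ^ 2 ^ (n - 1) := by
      obtain ⟨m, hm⟩ : Odd i' := Nat.odd_iff.2 (by omega)
      refine ⟨2 ^ (n - 1 - j), ?_⟩
      rw [← pow_mul, hij, show 2 ^ j * i' * 2 ^ (n - 1 - j) = 2 ^ (n - 1 + 1) * m + 2 ^ (n - 1) by
        rw [hm, pow_succ, show 2 ^ (n - 1) = 2 ^ j * 2 ^ (n - 1 - j) by rw [← pow_add]; congr 1; omega]; ring,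
        show n - 1 + 1 = n by omega, pow_add, pow_mul, hTN, one_pow, one_mul]
    have h2 : ∀ l : ℕ, ((T ^ i) ^ l) (π₁ ⟨u, hu⟩) = π₁ ⟨u, hu⟩ := fun l => by
      induction l with
      | zero => rfl
      | succ l ih => rw [pow_succ', MulAut.mul_apply, ih, h1]
    obtain ⟨r, hr⟩ := (mem_ker_adRep_iff ρ₀ u).1 ((hiff ⟨u, hu⟩).2 (hfixP _ (hl ▸ h2 l)))
    exact (mem_ker_adRep_iff ρW u).2 ⟨r, LinearMap.ext fun w => Subtype.ext (LinearMap.congr_fun hr (w : U))⟩
  have hirr : ∀ S : Submodule K W, (∀ g ∈ Q₁, ∀ w ∈ S, ρW g w ∈ S) → S = ⊥ ∨ S = ⊤ := fun S hS => by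
    rcases hWmin (S.map W.subtype) (Submodule.map_subtype_le W S) (by
        rintro ⟨_, u, hu, rfl⟩ _ ⟨w, hw, rfl⟩
        exact ⟨_, hS u hu w hw, rfl⟩) with h | h
    · exact Or.inl (Submodule.map_injective_of_injective W.injective_subtype (h.trans (Submodule.map_bot _).symm))
    · exact Or.inr (Submodule.map_injective_of_injective W.injective_subtype (h.trans (Submodule.map_subtype_top W).symm))
  have hlow : (ρW X₀ - 1) ^ (q - 1) ≠ 0 := fun h => by
    have h1 := (irreducible_bound (p := 2) (n := n) hqK ρW Q₁ hQ₁p hirr X₀ hX₀n (by omega) hd hfree (q - 1) h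
      (by omega)).1
    have := hq.two_le
    omega
  -- homomorphisms of the constituent commute with the element
  set D : Module.End K W := ρW X₀ - 1 with hD
  let Θ : Module.End K (W →ₗ[K] U) :=
    { toFun := fun φ => ρ₀ X₀ ∘ₗ φ ∘ₗ ρW X₀⁻¹
      map_add' := fun φ ψ => by simp [LinearMap.add_comp, LinearMap.comp_add]
      map_smul' := fun r φ => by simp [LinearMap.smul_comp, LinearMap.comp_smul] }
  let Eqv : (W →ₗ[K] U) → Prop := fun φ => ∀ u ∈ Q₁, ∀ w, ρ₀ u (φ w) = φ (ρW u w)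
  have hΘE : ∀ φ, Eqv φ → Eqv (Θ φ) := by
    intro φ hφ u hu w
    show ρ₀ u (ρ₀ X₀ (φ (ρW X₀⁻¹ w))) = ρ₀ X₀ (φ (ρW X₀⁻¹ (ρW u w)))
    rw [← Module.End.mul_apply (ρ₀ u), ← map_mul, show u * X₀ = X₀ * (X₀⁻¹ * u * X₀) by group, map_mul,
      Module.End.mul_apply, hφ _ (by simpa using (inferInstance : Q₁.Normal).conj_mem u hu X₀⁻¹),
      ← Module.End.mul_apply (ρW _), ← map_mul, ← Module.End.mul_apply (ρW _), ← map_mul]
    congr 3
    group
  have hXhom : ∀ φ, Eqv φ → ∀ w, ρ₀ X₀ (φ w) = φ (ρW X₀ w) := by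
    by_contra hh
    push Not at hh
    obtain ⟨φ, hφ, w₀, hw₀⟩ := hh
    have hΘn : Θ ^ 2 ^ n = 1 := by
      have h1 : ∀ (i : ℕ) (φ : W →ₗ[K] U), (Θ ^ i) φ = ρ₀ (X₀ ^ i) ∘ₗ φ ∘ₗ ρW ((X₀ ^ i)⁻¹) := by
        intro i
        induction i with
        | zero => intro φ; ext w; simp
        | succ i ih =>
          intro φ
          rw [pow_succ', Module.End.mul_apply, ih]
          ext w
          show ρ₀ X₀ (ρ₀ (X₀ ^ i) (φ (ρW (X₀ ^ i)⁻¹ (ρW X₀⁻¹ w)))) = ρ₀ (X₀ ^ (i + 1)) (φ (ρW (X₀ ^ (i + 1))⁻¹ w))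
          rw [← Module.End.mul_apply (ρ₀ X₀), ← map_mul, ← pow_succ', ← Module.End.mul_apply (ρW _), ← map_mul,
            ← mul_inv_rev, ← pow_succ']
      refine LinearMap.ext fun φ => ?_
      rw [h1, hX₀n, inv_one, map_one, map_one]
      rfl
    haveI : Nontrivial (W →ₗ[K] U) := ⟨⟨φ, 0, fun h => hw₀ (by rw [h]; simp)⟩⟩
    haveI : CharP (Module.End K (W →ₗ[K] U)) 2 :=
      charP_of_injective_algebraMap (algebraMap K (Module.End K (W →ₗ[K] U))).injective 2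
    haveI : ExpChar (Module.End K (W →ₗ[K] U)) 2 := ExpChar.prime Nat.prime_two
    have hnil : (Θ - 1) ^ 2 ^ n = 0 := by
      rw [sub_pow_expChar_pow_of_commute (p := 2) _ (Commute.one_right _), one_pow, hΘn, sub_self]
    have hex : ∃ j : ℕ, ((Θ - 1) ^ (j + 1) : Module.End K (W →ₗ[K] U)) φ = 0 := ⟨2 ^ n, by rw [pow_succ', hnil, mul_zero]; rfl⟩
    set j := Nat.find hex with hj
    have hj1 : 1 ≤ j := by
      by_contra h0
      have h1 := Nat.find_spec hex
      rw [show Nat.find hex = 0 by omega, zero_add, pow_one, LinearMap.sub_apply, Module.End.one_apply, sub_eq_zero] at h1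
      refine hw₀ ?_
      have h2 : (Θ φ) (ρW X₀ w₀) = φ (ρW X₀ w₀) := by rw [h1]
      rw [show (Θ φ) (ρW X₀ w₀) = ρ₀ X₀ (φ (ρW X₀⁻¹ (ρW X₀ w₀))) from rfl, ← Module.End.mul_apply (ρW X₀⁻¹),
        ← map_mul, inv_mul_cancel, map_one] at h2
      exact h2
    have hE : ∀ i : ℕ, Eqv (((Θ - 1) ^ i : Module.End K (W →ₗ[K] U)) φ) := fun i => by
      induction i with
      | zero => simpa using hφ
      | succ i ih =>
        intro u hu w
        rw [pow_succ', Module.End.mul_apply, LinearMap.sub_apply, Module.End.one_apply, LinearMap.sub_apply,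
          LinearMap.sub_apply, map_sub, hΘE _ ih u hu w, ih u hu w]
    set φ' := ((Θ - 1) ^ (j - 1)) φ
    set ψ := ((Θ - 1) ^ j) φ with hψ
    have hψE : Eqv ψ := hE j
    have hψ0 : ψ ≠ 0 := by
      have := Nat.find_min hex (show j - 1 < j by omega)
      rwa [show j - 1 + 1 = j by omega] at this
    have hφψ : (Θ - 1) φ' = ψ := by rw [hψ, ← Module.End.mul_apply, ← pow_succ', show j - 1 + 1 = j by omega]
    have hψψ : (Θ - 1) ψ = 0 := by rw [hψ, ← Module.End.mul_apply, ← pow_succ']; exact Nat.find_spec hex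
    have hΘapp : ∀ (η : W →ₗ[K] U) (w : W), ρ₀ X₀ (η w) = (Θ η) (ρW X₀ w) := fun η w => by
      show _ = ρ₀ X₀ (η (ρW X₀⁻¹ (ρW X₀ w)))
      rw [← Module.End.mul_apply (ρW X₀⁻¹), ← map_mul, inv_mul_cancel, map_one, Module.End.one_apply]
    have hstepψ : ∀ w, (ρ₀ X₀ - 1) (ψ w) = ψ (D w) := fun w => by
      have h1 : Θ ψ = ψ := sub_eq_zero.1 (by simpa using hψψ)
      rw [LinearMap.sub_apply, Module.End.one_apply, hΘapp, h1, hD, LinearMap.sub_apply, Module.End.one_apply, map_sub]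
    have hstepφ : ∀ w, (ρ₀ X₀ - 1) (φ' w) = φ' (D w) + ψ (ρW X₀ w) := fun w => by
      have h1 : Θ φ' = φ' + ψ := by rw [← hφψ]; simp
      rw [LinearMap.sub_apply, Module.End.one_apply, hΘapp, h1, LinearMap.add_apply, hD, LinearMap.sub_apply,
        Module.End.one_apply, map_sub]
      abel
    have hcomD : ∀ w, D (ρW X₀ w) = ρW X₀ (D w) := fun w => by
      rw [hD, LinearMap.sub_apply, LinearMap.sub_apply, Module.End.one_apply, Module.End.one_apply, map_sub]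
    have hcomDi : ∀ (i : ℕ) w, (D ^ i) (ρW X₀ w) = ρW X₀ ((D ^ i) w) := fun i => by
      induction i with
      | zero => intro w; rfl
      | succ i ih => intro w; rw [pow_succ, Module.End.mul_apply, Module.End.mul_apply, hcomD, ih]
    have hiter : ∀ (i : ℕ) (w : W), ((ρ₀ X₀ - 1) ^ (i + 1)) (φ' w) =
        φ' ((D ^ (i + 1)) w) + ((i + 1 : ℕ) : K) • ψ (ρW X₀ ((D ^ i) w)) := by
      intro i
      induction i with
      | zero => intro w; simpa using hstepφ w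
      | succ i ih =>
        intro w
        rw [pow_succ', Module.End.mul_apply, ih, map_add, map_smul, hstepφ, hstepψ, hcomD, pow_succ' D (i + 1),
          Module.End.mul_apply, ← Module.End.mul_apply D (D ^ i), ← pow_succ', Nat.cast_succ (i + 1), add_smul, one_smul]
        abel
    have hqodd : Odd q := hq.odd_of_ne_two hq2
    have hDq : D ^ q = 0 := by
      rw [← hNq]
      refine LinearMap.ext fun w => Subtype.ext ?_
      have hpow : ∀ (i : ℕ) (w : W), (((D ^ i) w : W) : U) = ((ρ₀ X₀ - 1) ^ i) (w : U) := by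
        intro i
        induction i with
        | zero => intro w; simp
        | succ i ih => intro w; rw [pow_succ', Module.End.mul_apply, pow_succ', Module.End.mul_apply, ← ih]; rfl
      rw [hpow]
      show ((ρ X - 1) ^ (2 ^ n - 1) : Module.End K U) (w : U) = _
      rw [hdeg]; rfl
    have hψinj : ∀ w, ψ w = 0 → w = 0 := by
      intro w hw
      rcases hirr (LinearMap.ker ψ) (fun g hg w hw => by
        rw [LinearMap.mem_ker] at hw ⊢
        rw [← hψE g hg, hw, map_zero]) with h | h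
      · exact (Submodule.eq_bot_iff _).1 h w hw
      · exact absurd (LinearMap.ker_eq_top.1 h) hψ0
    refine hlow (LinearMap.ext fun w => ?_)
    have h1 := hiter (q - 1) w
    rw [show q - 1 + 1 = q by have := hq.two_le; omega, hDq, natCast_odd hqodd, one_smul,
      show (ρ₀ X₀ - 1) ^ q = 0 from hNq ▸ hdeg, LinearMap.zero_apply, LinearMap.zero_apply, map_zero, zero_add] at h1
    have h2 := congrArg (ρW X₀⁻¹) (hψinj _ h1.symm)
    rwa [← Module.End.mul_apply, ← map_mul, inv_mul_cancel, map_one, Module.End.one_apply, map_zero] at h2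
  -- the fixed part of the involution is fixed
  obtain ⟨u, rfl⟩ := hπ a
  have hfixed : ∀ s : Q, β (β (π s)) = π s → ∀ w : W, ρ (MulAut.conjNormal X s : Q) (w : U) = ρ s (w : U) := by
    intro s hs w
    have hE : Eqv (ρ s ∘ₗ W.subtype) := by
      intro g hg v
      show ρ (g : G) (ρ s (v : U)) = ρ s (ρ (g : G) (v : U))
      obtain ⟨hgQ, hgP⟩ := (hmem₀ _).1 hg
      have h1 := hcc ⟨g, hgQ⟩ s
      rw [show c (π ⟨(g : G), hgQ⟩) (π s) = 1 from hcrossP _ _ hgP hs, Units.val_one, one_smul] at h1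
      exact LinearMap.congr_fun h1 (v : U)
    have h1 := hXhom _ hE (ρW X₀⁻¹ w)
    rw [← Module.End.mul_apply (ρW X₀), ← map_mul, mul_inv_cancel, map_one, Module.End.one_apply] at h1
    rw [MulAut.conjNormal_apply, map_mul, map_mul, Module.End.mul_apply, Module.End.mul_apply]
    exact h1
  set v := u⁻¹ * MulAut.conjNormal X u with hv
  have hπv : π v = (π u)⁻¹ * T (π u) := by rw [hv, map_mul, map_inv, hT]
  have hvC : β (β (π v)) = π v := by
    have hcm : T * (β * β) = β * β * T := by rw [hββ, ← pow_succ, ← pow_succ']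
    have h1 : β (β (T (π u))) = T (π u) := (DFunLike.congr_fun hcm (π u)).symm.trans (congrArg T ha)
    rw [hπv, map_mul, map_mul, map_inv, map_inv, ha, h1]
  have hvact : ∀ s : Q, β (β (π s)) = π s → ∀ w : W, ρ v (ρ s (w : U)) = ρ s (w : U) := by
    intro s hs w
    have h1 := hfixed (u * s) (by rw [map_mul, map_mul, map_mul, ha, hs]) w
    rw [map_mul, Subgroup.coe_mul, Subgroup.coe_mul, map_mul, map_mul, Module.End.mul_apply, Module.End.mul_apply,
      hfixed s hs w] at h1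
    rw [hv, Subgroup.coe_mul, map_mul, Module.End.mul_apply, h1, ← Module.End.mul_apply, ← map_mul, Subgroup.coe_inv,
      inv_mul_cancel, map_one, Module.End.one_apply]
  have hv1 : π v = 1 := hc.nondeg _ fun e => by
    obtain ⟨p, r, rfl, hp, hr⟩ := exists_split hc (β * β) (fun a => by simp [hfour]) e
    obtain ⟨s, rfl⟩ := hπ r
    have hp' : c (π v) p = 1 := by rw [swap_eq_inv hc, hcrossP _ _ hp hvC, inv_one]
    rw [map_mul, hp', one_mul]
    obtain ⟨w, hw⟩ := exists_ne (0 : W)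
    have hsw : ρ (s : G) (w : U) ≠ 0 := fun h => hw (Subtype.ext (by
      have h2 := congrArg (ρ (s : G)⁻¹) h
      rwa [← Module.End.mul_apply, ← map_mul, inv_mul_cancel, map_one, Module.End.one_apply, map_zero] at h2))
    have h1 := LinearMap.congr_fun (hcc v s) (w : U)
    rw [LinearMap.smul_apply, Module.End.mul_apply, Module.End.mul_apply, hvact s hr w] at h1
    have h2 := hvact 1 (by simp) w
    rw [Subgroup.coe_one, map_one, Module.End.one_apply] at h2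
    rw [h2] at h1
    exact Units.ext (smul_left_injective K hsw ((one_smul K _).trans h1)).symm
  exact (inv_mul_eq_one.1 (hπv ▸ hv1)).symm

end Cfsg.Lib.TwoLength
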