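import Mathlib
import Cfsg.Agent.TwoLength.Form
import Cfsg.Agent.TwoLength.Local

/-!
The plane moved by an element of two-power order with small degree, at a character of the centre of a
normalized group of class two.
-/

set_option linter.style.haveILetI false
set_option linter.unusedSectionVars false

namespace Cfsg.Lib.TwoLength

open Module Subgroup Cfsg.Lib.HallHigman
open scoped commutatorElement

universe u v w

variable {K : Type u} [Field K] [IsAlgClosed K] [CharP K 2] {V : Type v} [AddCommGroup V] [Module K V]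
  [FiniteDimensional K V] {H : Type w} [Group H] [Finite H]

/-- An orbit of eigenvalue functions is shorter than the order, and bounds the degree on each of its
eigenspaces. -/
theorem orbit_bound (ρ : H →* Module.End K V) (x : H) (n : ℕ) (hx : x ^ 2 ^ n = 1)
    (hdeg : (ρ x - 1) ^ (2 ^ n - 1) = 0) (R : Subgroup H) (hR : ∀ r ∈ R, x⁻¹ * r * x ∈ R) (f : R → K) (v : V)
    (hv0 : v ≠ 0) (hv : ∀ r : R, ρ r v = f r • v) :
    ∃ a, a < n ∧ (∀ r s : R, (s : H) = (x ^ 2 ^ a)⁻¹ * r * x ^ 2 ^ a → f s = f r) ∧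
      ∀ w : V, (∀ r : R, ρ r w = f r • w) → ((ρ (x ^ 2 ^ a) - 1) ^ (2 ^ (n - a) - 1) : Module.End K V) w = 0 := by
  classical
  haveI : Fact (Nat.Prime 2) := ⟨Nat.prime_two⟩
  haveI : Nontrivial V := ⟨⟨v, 0, hv0⟩⟩
  haveI : CharP (Module.End K V) 2 := charP_of_injective_algebraMap (algebraMap K (Module.End K V)).injective 2
  haveI : ExpChar (Module.End K V) 2 := ExpChar.prime Nat.prime_two
  let σ : R → R := fun r => ⟨x⁻¹ * (r : H) * x, hR r r.2⟩
  have hσi : ∀ (i : ℕ) (r : R), ((σ^[i] r : R) : H) = (x ^ i)⁻¹ * (r : H) * x ^ i := by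
    intro i
    induction i with
    | zero => intro r; simp
    | succ i ih =>
      intro r
      rw [Function.iterate_succ_apply', show ((σ (σ^[i] r) : R) : H) = x⁻¹ * ((σ^[i] r : R) : H) * x from rfl, ih,
        pow_succ]
      group
  let τ : (R → K) → (R → K) := fun g => g ∘ σ
  have hτ : ∀ (i : ℕ) (g : R → K), τ^[i] g = g ∘ σ^[i] := by
    intro i
    induction i with
    | zero => intro g; rfl
    | succ i ih => intro g; rw [Function.iterate_succ_apply', ih, Function.iterate_succ]; rfl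
  have hper : Function.IsPeriodicPt τ (2 ^ n) f := by
    show τ^[2 ^ n] f = f
    rw [hτ]
    funext r
    show f _ = f r
    congr 1
    exact Subtype.ext (by rw [hσi, hx, inv_one, one_mul, mul_one])
  obtain ⟨a, han, haM⟩ := (Nat.dvd_prime_pow Nat.prime_two).1 hper.minimalPeriod_dvd
  set M := 2 ^ a with hM
  have hMpos : 0 < M := Nat.two_pow_pos _
  have hinj : Set.InjOn (fun i => f ∘ σ^[i]) (Set.Iio M) := by
    have h1 := Function.iterate_injOn_Iio_minimalPeriod (f := τ) (x := f)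
    rw [haM] at h1
    simpa only [hτ] using h1
  have hxu : IsUnit (ρ x) := (Group.isUnit x).map ρ
  have hσρ : ∀ r, ρ x * ρ (σ r : R) = ρ (r : H) * ρ x := fun r => by
    show ρ x * ρ (x⁻¹ * (r : H) * x) = _
    rw [← map_mul, ← map_mul]; congr 1; group
  have hfix : ∀ r s : R, (s : H) = (x ^ M)⁻¹ * r * x ^ M → f s = f r := by
    intro r s hs
    have h1 : τ^[M] f = f := by rw [← haM]; exact Function.isPeriodicPt_minimalPeriod τ f
    rw [hτ] at h1
    rw [show s = σ^[M] r from Subtype.ext (by rw [hσi, hs])]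
    exact congrFun h1 r
  rcases Nat.lt_or_ge a n with halt | hge
  swap
  · exfalso
    refine pow_sub_one_apply_ne_zero_of_orbit (ρ.comp R.subtype) (ρ x) hxu σ hσρ v f hv hv0 M hinj hMpos ?_
    rw [show M = 2 ^ n by rw [hM, show a = n by omega], hdeg]
    rfl
  refine ⟨a, halt, hfix, fun w hw => ?_⟩
  by_contra hne
  have hinv : ∀ (i : ℕ) (w : V), (∀ r : R, ρ r w = f r • w) → ∀ r : R, ρ r (((ρ (x ^ M) - 1) ^ i) w) =
      f r • ((ρ (x ^ M) - 1) ^ i) w := by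
    intro i
    induction i with
    | zero => intro w hw r; simpa using hw r
    | succ i ih =>
      intro w hw r
      rw [pow_succ', Module.End.mul_apply, LinearMap.sub_apply, Module.End.one_apply, map_sub, smul_sub,
        ih w hw r, ← Module.End.mul_apply, ← map_mul,
        show (r : H) * x ^ M = x ^ M * (σ^[M] r : R) by rw [hσi]; group,
        map_mul, Module.End.mul_apply, ih w hw (σ^[M] r), map_smul, hfix r _ (hσi M r)]
  refine pow_sub_one_apply_ne_zero_of_orbit (ρ.comp R.subtype) (ρ x) hxu σ hσρ _ f (hinv _ w hw) hne M hinj hMpos ?_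
  have hxM : ρ (x ^ M) - 1 = (ρ x - 1) ^ M := by
    rw [hM, sub_pow_expChar_pow_of_commute (p := 2) _ (Commute.one_right _), one_pow, map_pow]
  have he : M - 1 + M * (2 ^ (n - a) - 1) = 2 ^ n - 1 := by
    rw [Nat.mul_sub, mul_one, hM, ← pow_add, show a + (n - a) = n by omega]
    have := Nat.pow_le_pow_right (show 0 < 2 by norm_num) halt.le
    have := Nat.two_pow_pos a
    omega
  rw [hxM, ← Module.End.mul_apply, ← pow_mul, ← pow_add, he, hdeg, LinearMap.zero_apply]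

/-- The common eigenspace of a linear character of the centre. -/
def charSpace {Q : Subgroup H} (ρ : H →* Module.End K V) (χ : cenIn Q →* Kˣ) : Submodule K V :=
  ⨅ z : cenIn Q, (ρ (z : H)).eigenspace (χ z : K)

theorem mem_charSpace {Q : Subgroup H} {ρ : H →* Module.End K V} {χ : cenIn Q →* Kˣ} {w : V} :
    w ∈ charSpace ρ χ ↔ ∀ z : cenIn Q, ρ (z : H) w = (χ z : K) • w := by
  simp [charSpace, Submodule.mem_iInf]

theorem restrict_pow_apply {G : Type*} [Group G] (ρ : G →* Module.End K V) (W : Submodule K V)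
    (h : ∀ g : G, ∀ w ∈ W, ρ g w ∈ W) (g : G) : ∀ (i : ℕ) (w : W),
    (((((restrictRep ρ W h g - 1) ^ i : Module.End K W)) w : W) : V) = ((ρ g - 1) ^ i : Module.End K V) (w : V) := by
  intro i
  induction i with
  | zero => intro w; simp
  | succ i ih => intro w; rw [pow_succ', Module.End.mul_apply, pow_succ', Module.End.mul_apply, ← ih]; rfl

variable {q : ℕ} [Fact q.Prime] {Q : Subgroup H} [Fact (ClassTwo Q)]

/-- At each occurring character, the involution acts trivially, or the element of order four moves one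
plane. -/
theorem support (hq2 : q ≠ 2) (ρ : H →* Module.End K V) (hQ : IsPGroup q Q) (χ : cenIn Q →* Kˣ) (v : V)
    (hv0 : v ≠ 0) (hv : v ∈ charSpace ρ χ) (x : H) (k : ℕ) (hx : x ^ 2 ^ (k + 1) = 1)
    (hdeg : (ρ x - 1) ^ (2 ^ (k + 1) - 1) = 0) (hxQ : x ∈ normalizer (Q : Set H)) :
    ∃ hy : x ^ 2 ^ k ∈ stabChar χ, actQuot χ ⟨_, hy⟩ = 1 ∨
      (q % 4 = 3 ∧ 1 ≤ k ∧ ∃ hb : x ^ 2 ^ (k - 1) ∈ stabChar χ, SmallAut q (actQuot χ ⟨_, hb⟩)) := by
  classical
  obtain ⟨a₀, ha₀, hfix₀, hdeg₀⟩ := orbit_bound ρ x (k + 1) hx hdeg (cenIn Q)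
    (fun r hr => by simpa using cen_conj (inv_mem hxQ) hr) (fun z => (χ z : K)) v hv0 (mem_charSpace.1 hv)
  set x₀ := x ^ 2 ^ a₀ with hx₀
  have hx₀Q : x₀ ∈ normalizer (Q : Set H) := pow_mem hxQ _
  have hx₀χ : x₀ ∈ stabChar χ := ⟨hx₀Q, fun z => Units.ext
    (hfix₀ ⟨x₀ * z * x₀⁻¹, cen_conj hx₀Q z.2⟩ z (by show (z : H) = x₀⁻¹ * (x₀ * z * x₀⁻¹) * x₀; group)).symm⟩
  set Γ := Q ⊔ zpowers x₀ with hΓ
  haveI hQn : (Q.subgroupOf Γ).Normal :=
    normal_subgroupOf_of_le_normalizer (sup_le le_normalizer (zpowers_le.2 hx₀Q))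
  set U₀ := charSpace ρ χ with hU₀
  have hΓU : ∀ g : Γ, ∀ w ∈ U₀, ρ (g : H) w ∈ U₀ := by
    intro g
    have hle : Γ ≤ stabSub ρ U₀ := sup_le (fun b hb w hw => mem_charSpace.2 fun z => by
        rw [← Module.End.mul_apply, ← map_mul, ← cen_comm z.2 hb, map_mul, Module.End.mul_apply,
          mem_charSpace.1 hw, map_smul])
      (zpowers_le.2 fun w hw => mem_charSpace.2 fun z => by
        have hmem : x₀⁻¹ * (z : H) * x₀ ∈ cenIn Q := by simpa using cen_conj (inv_mem hx₀Q) z.2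
        have h1 : (z : H) * x₀ = x₀ * (⟨_, hmem⟩ : cenIn Q) := by show _ = x₀ * (x₀⁻¹ * (z : H) * x₀); group
        rw [← Module.End.mul_apply, ← map_mul, h1, map_mul, Module.End.mul_apply, mem_charSpace.1 hw, map_smul,
          hfix₀ z ⟨_, hmem⟩ rfl])
    exact hle g.2
  let ρ₀ : Γ →* Module.End K U₀ := restrictRep (ρ.comp Γ.subtype) U₀ hΓU
  haveI : Nontrivial U₀ := ⟨⟨⟨v, hv⟩, 0, fun e => hv0 (congrArg Subtype.val e)⟩⟩
  let X₀ : Γ := ⟨x₀, (le_sup_right : zpowers x₀ ≤ Γ) (mem_zpowers x₀)⟩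
  set n₀ := k + 1 - a₀ with hn₀
  have hX₀ : X₀ ^ 2 ^ n₀ = 1 := Subtype.ext (by
    show (x ^ 2 ^ a₀) ^ 2 ^ n₀ = 1
    rw [← pow_mul, ← pow_add, show a₀ + n₀ = k + 1 by omega, hx])
  have hdegU₀ : (ρ₀ X₀ - 1) ^ (2 ^ n₀ - 1) = 0 := LinearMap.ext fun w => Subtype.ext (by
    exact (restrict_pow_apply (ρ.comp Γ.subtype) U₀ hΓU X₀ _ w).trans (hdeg₀ w (mem_charSpace.1 w.2)))
  -- the commutation rule on the eigenspace
  have hcomU : ∀ g s : Γ, (hg : (g : H) ∈ Q) → (hs : (s : H) ∈ Q) →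
      ρ₀ g * ρ₀ s = ((comVal χ ⟨(g : H), hg⟩ ⟨(s : H), hs⟩ : Kˣ) : K) • (ρ₀ s * ρ₀ g) := by
    intro g s hg hs
    refine LinearMap.ext fun w => Subtype.ext ?_
    show ρ (g : H) (ρ (s : H) w) = ((comVal χ ⟨(g : H), hg⟩ ⟨(s : H), hs⟩ : Kˣ) : K) • ρ (s : H) (ρ (g : H) w)
    have h1 : ρ ⁅(g : H), (s : H)⁆ (ρ ((s : H) * g) w) =
        ((comVal χ ⟨(g : H), hg⟩ ⟨(s : H), hs⟩ : Kˣ) : K) • ρ ((s : H) * g) w :=
      mem_charSpace.1 (hΓU (s * g) w w.2) ⟨_, (Fact.out : ClassTwo Q) _ hg _ hs⟩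
    rw [← Module.End.mul_apply, ← map_mul, show (g : H) * s = ⁅(g : H), (s : H)⁆ * ((s : H) * g) by
      rw [commutatorElement_def]; group, map_mul, Module.End.mul_apply, h1, map_mul, Module.End.mul_apply]
  -- an eigenspace of the radical
  set R := ((pairing χ).ker.map Q.subtype).subgroupOf Γ with hR
  have hmemR : ∀ g : Γ, g ∈ R ↔ ∃ hg : (g : H) ∈ Q, ∀ s, comVal χ ⟨(g : H), hg⟩ s = 1 := by
    intro g
    refine ⟨?_, fun ⟨hg, h⟩ => ⟨⟨g, hg⟩, (mem_radical χ).2 h, rfl⟩⟩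
    rintro ⟨⟨y, hy⟩, h, e⟩
    change y = (g : H) at e
    subst e
    exact ⟨hy, (mem_radical χ).1 h⟩
  have hRconj : ∀ m : stabChar χ, ∀ g : Γ, g ∈ R → ∀ g' : Γ, (g' : H) = m * g * (m : H)⁻¹ → g' ∈ R := by
    intro m g hg g' hg'
    obtain ⟨hgQ, h⟩ := (hmemR g).1 hg
    have hk : stabConj χ m ⟨g, hgQ⟩ ∈ (pairing χ).ker := (map_radical χ m).le ⟨_, (mem_radical χ).2 h, rfl⟩
    exact ⟨_, hk, hg'.symm⟩
  let ρRu : R →* (Module.End K U₀)ˣ := (ρ₀.comp R.subtype).toHomUnits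
  set Rb := ρRu.range
  haveI : Finite Rb := .of_surjective ρRu.rangeRestrict ρRu.rangeRestrict_surjective
  have hRcomm : ∀ a b : Rb, a * b = b * a := by
    rintro ⟨_, a, rfl⟩ ⟨_, b, rfl⟩
    refine Subtype.ext (Units.ext ?_)
    show ρ₀ a * ρ₀ b = ρ₀ b * ρ₀ a
    obtain ⟨ha, ha'⟩ := (hmemR a).1 a.2
    obtain ⟨hb, -⟩ := (hmemR b).1 b.2
    rw [hcomU a b ha hb, ha', Units.val_one, one_smul]
  obtain ⟨v₁, -, hv₁0, hv₁⟩ := exists_common_eigenvector hRcomm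
    ((Units.coeHom (Module.End K U₀)).comp Rb.subtype) _ ⊤ le_rfl top_ne_bot (fun _ _ _ => trivial)
  choose g hg using hv₁
  let f : R → K := fun r => g ⟨ρRu r, r, rfl⟩
  have hf : ∀ r : R, ρ₀ r v₁ = f r • v₁ := fun r => hg ⟨ρRu r, r, rfl⟩
  obtain ⟨a₁, ha₁, hfix₁, hdeg₁⟩ := orbit_bound ρ₀ X₀ n₀ hX₀ hdegU₀ R
    (fun r hr => hRconj ⟨x₀⁻¹, inv_mem hx₀χ⟩ r hr _ (by simp [X₀])) f v₁ hv₁0 hf
  set X := X₀ ^ 2 ^ a₁ with hX
  set n := n₀ - a₁ with hn
  have hXn : X ^ 2 ^ n = 1 := by rw [hX, ← pow_mul, ← pow_add, show a₁ + n = n₀ by omega, hX₀]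
  set U : Submodule K U₀ := ⨅ r : R, (ρ₀ r).eigenspace (f r) with hUdef
  have hU : ∀ w, w ∈ U ↔ ∀ r : R, ρ₀ r w = f r • w := fun w => by simp [hUdef, Submodule.mem_iInf]
  haveI : Nontrivial U := ⟨⟨⟨v₁, (hU _).2 hf⟩, 0, fun e => hv₁0 (congrArg Subtype.val e)⟩⟩
  set G := stabSub ρ₀ U with hG
  have hQG : ∀ s : Γ, (s : H) ∈ Q → s ∈ G := by
    intro s hs w hw
    rw [hU] at hw ⊢
    intro r
    obtain ⟨hr, hr'⟩ := (hmemR r).1 r.2
    rw [← Module.End.mul_apply, hcomU r s hr hs, hr', Units.val_one, one_smul, Module.End.mul_apply, hw, map_smul]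
  have hXG : X ∈ G := by
    intro w hw
    rw [hU] at hw ⊢
    intro r
    have hr' : X⁻¹ * (r : Γ) * X ∈ R := hRconj ⟨((x₀ ^ 2 ^ a₁)⁻¹ : H), inv_mem (pow_mem hx₀χ _)⟩ r r.2 _
      (by simp [X, X₀])
    have h1 : (r : Γ) * X = X * (⟨_, hr'⟩ : R) := by show _ = X * (X⁻¹ * (r : Γ) * X); group
    rw [← Module.End.mul_apply, ← map_mul, h1, map_mul, Module.End.mul_apply, hw, map_smul,
      hfix₁ r ⟨_, hr'⟩ rfl]
  let ρU : G →* Module.End K U := restrictRep (ρ₀.comp G.subtype) U fun g => g.2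
  let X' : G := ⟨X, hXG⟩
  have hdegU : (ρU X' - 1) ^ (2 ^ n - 1) = 0 := LinearMap.ext fun w => Subtype.ext (by
    exact (restrict_pow_apply (ρ₀.comp G.subtype) U (fun g => g.2) X' _ w).trans (hdeg₁ w ((hU _).1 w.2)))
  set Q' := (Q.subgroupOf Γ).subgroupOf G with hQ'
  haveI : Q'.Normal := hQn.subgroupOf G
  have hQ'p : IsPGroup q Q' :=
    (hQ.comap_of_injective _ Γ.subtype_injective).comap_of_injective _ G.subtype_injective
  let ι : Q' →* Q :=
    { toFun := fun s => ⟨((s : G) : Γ), s.2⟩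
      map_one' := rfl
      map_mul' := fun _ _ => rfl }
  let π : Q' →* CharQuot χ := (QuotientGroup.mk' _).comp ι
  have hπ : Function.Surjective π := fun a => by
    obtain ⟨s, rfl⟩ := QuotientGroup.mk_surjective a
    exact ⟨⟨⟨⟨s, (le_sup_left : Q ≤ Γ) s.2⟩, hQG _ s.2⟩, s.2⟩, rfl⟩
  have hcc : ∀ a b : Q', ρU a * ρU b = (formQuot χ (π a) (π b) : K) • (ρU b * ρU a) := fun a b =>
    LinearMap.ext fun w => Subtype.ext (LinearMap.congr_fun (hcomU _ _ (ι a).2 (ι b).2) (w : U₀))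
  have hker : ∀ a : Q', π a = 1 → ∃ r : K, ρU a = r • 1 := by
    intro a ha
    have hr : ((a : G) : Γ) ∈ R := (hmemR _).2 ⟨(ι a).2, (mem_radical χ).1 ((QuotientGroup.eq_one_iff _).1 ha)⟩
    exact ⟨f ⟨_, hr⟩, LinearMap.ext fun w => Subtype.ext ((hU _).1 w.2 ⟨_, hr⟩)⟩
  have hLχ : x₀ ^ 2 ^ a₁ ∈ stabChar χ := pow_mem hx₀χ _
  set T := actQuot χ ⟨_, hLχ⟩ with hTdef
  have hT : ∀ a : Q', π (MulAut.conjNormal X' a) = T (π a) := fun a => by
    show QuotientGroup.mk _ = T (QuotientGroup.mk (ι a))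
    rw [hTdef, actQuot_mk]
    congr 1
  have hpow : ∀ i, i ≤ k → a₀ + a₁ ≤ i → ∃ hm : x ^ 2 ^ i ∈ stabChar χ,
      actQuot χ ⟨_, hm⟩ = T ^ 2 ^ (i - (a₀ + a₁)) := by
    intro i _ hle
    have he : x ^ 2 ^ i = (x₀ ^ 2 ^ a₁) ^ 2 ^ (i - (a₀ + a₁)) := by
      rw [hx₀, ← pow_mul, ← pow_mul, ← pow_add, ← pow_add, show a₀ + (a₁ + (i - (a₀ + a₁))) = i by omega]
    refine ⟨he ▸ pow_mem hLχ _, ?_⟩
    rw [hTdef, ← map_pow]
    congr 1
    exact Subtype.ext he
  obtain ⟨hy, hyT⟩ := hpow k le_rfl (by omega)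
  refine ⟨hy, ?_⟩
  rw [hyT, show k - (a₀ + a₁) = n - 1 by omega]
  rcases Nat.lt_or_ge n 2 with hn1 | hn2
  · refine Or.inl ?_
    rw [show n - 1 = 0 by omega, pow_zero, pow_one]
    have hX1 : ρU X' = 1 := by
      rw [show n = 1 by omega, pow_one, show (2 - 1 : ℕ) = 1 from rfl, pow_one] at hdegU
      exact eq_of_sub_eq_zero hdegU
    refine MulEquiv.ext fun a => ?_
    obtain ⟨a, rfl⟩ := hπ a
    rw [← hT, MulAut.one_apply]
    refine mul_inv_eq_one.1 ?_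
    rw [← map_inv, ← map_mul]
    refine (goodForm χ (by
      obtain ⟨m, hm⟩ := IsPGroup.iff_card.1 hQ
      rw [hm]
      exact ((Fact.out : q.Prime).odd_of_ne_two hq2).pow)).nondeg _ fun b => ?_
    obtain ⟨b, rfl⟩ := hπ b
    have hone : ρU ((MulAut.conjNormal X' a * a⁻¹ : Q') : G) = 1 := by
      rw [Subgroup.coe_mul, MulAut.conjNormal_apply, Subgroup.coe_inv, map_mul, map_mul, map_mul, hX1, one_mul]
      have hXi : ρU X'⁻¹ = 1 := by
        have h2 := map_mul ρU X' X'⁻¹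
        rw [mul_inv_cancel, map_one, hX1, one_mul] at h2
        exact h2.symm
      rw [hXi, mul_one, ← map_mul, mul_inv_cancel, map_one]
    have h1 := hcc (MulAut.conjNormal X' a * a⁻¹) b
    rw [hone, one_mul, mul_one] at h1
    have hρb : ρU (b : G) ≠ 0 := fun h => one_ne_zero (α := Module.End K U) (by
      rw [← map_one ρU, ← mul_inv_cancel (b : G), map_mul, h, zero_mul])
    obtain ⟨w, hw⟩ : ∃ w : U, ρU (b : G) w ≠ 0 := by
      by_contra hh
      push Not at hh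
      exact hρb (LinearMap.ext hh)
    have h2 := LinearMap.congr_fun h1 w
    rw [LinearMap.smul_apply] at h2
    exact Units.ext (smul_left_injective K hw (h2.symm.trans (one_smul K _).symm))
  by_cases hne : T ^ 2 ^ (n - 1) = 1
  · exact Or.inl hne
  obtain ⟨hq4, hsm⟩ := local_support hq2 ρU Q' hQ'p π hπ (formQuot χ) (goodForm χ (by
      obtain ⟨m, hm⟩ := IsPGroup.iff_card.1 hQ
      rw [hm]
      exact ((Fact.out : q.Prime).odd_of_ne_two hq2).pow)) hcc hker X' T (actQuot_keeps χ _) hT n hn2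
    (Subtype.ext hXn) hdegU hne
  obtain ⟨hb, hbT⟩ := hpow (k - 1) (by omega) (by omega)
  refine Or.inr ⟨hq4, by omega, hb, ?_⟩
  rw [hbT, show k - 1 - (a₀ + a₁) = n - 2 by omega]
  exact hsm

end Cfsg.Lib.TwoLength
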