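import Mathlib
import Cfsg.Prelude
import Cfsg.Agent.HallHigman.AgemoCommute
import Cfsg.Agent.SolvStruct.PGroupBasics
import Cfsg.Agent.TwoLength.Support

/-!
The highest `2`-powers of the elements of a `2`-subgroup, in a `2`-solvable linear group of small degree
over characteristic two: the relation that drops the exponent.
-/

set_option linter.style.haveILetI false
set_option linter.unusedSectionVars false

namespace Cfsg.Lib.TwoLength

open Module Subgroup Cfsg.Lib.HallHigman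
open scoped commutatorElement

universe u v w

variable {K : Type u} [Field K] [IsAlgClosed K] [CharP K 2] {V : Type v} [AddCommGroup V] [Module K V]
  [FiniteDimensional K V] {H : Type w} [Group H] [Finite H]

/-- The elements of `S` centralizing every abelian `S`-invariant subgroup of odd prime power order. -/
def fixGroup (S : Subgroup H) : Subgroup H where
  carrier := {s | s ∈ S ∧ ∀ (q : ℕ) (A : Subgroup H), q.Prime → q ≠ 2 → IsPGroup q A → S ≤ normalizer (A : Set H) →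
    (∀ a ∈ A, ∀ b ∈ A, a * b = b * a) → ∀ a ∈ A, Commute a s}
  one_mem' := ⟨one_mem S, fun _ _ _ _ _ _ _ a _ => Commute.one_right a⟩
  mul_mem' := fun ha hb => ⟨mul_mem ha.1 hb.1, fun q A h1 h2 h3 h4 h5 a h6 =>
    (ha.2 q A h1 h2 h3 h4 h5 a h6).mul_right (hb.2 q A h1 h2 h3 h4 h5 a h6)⟩
  inv_mem' := fun ha => ⟨inv_mem ha.1, fun q A h1 h2 h3 h4 h5 a h6 => (ha.2 q A h1 h2 h3 h4 h5 a h6).inv_right⟩

theorem fixGroup_le (S : Subgroup H) : fixGroup S ≤ S := fun _ h => h.1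

theorem le_normalizer_fixGroup (S : Subgroup H) : S ≤ normalizer (fixGroup S : Set H) := by
  intro g hg
  refine mem_normalizer_of_conj_le fun z hz => ⟨mul_mem (mul_mem hg hz.1) (inv_mem hg), ?_⟩
  intro q A h1 h2 h3 h4 h5 a ha
  have ha' : g⁻¹ * a * g ∈ A := (mem_normalizer_iff''.1 (h4 hg) a).1 ha
  show a * (g * z * g⁻¹) = g * z * g⁻¹ * a
  calc a * (g * z * g⁻¹) = g * ((g⁻¹ * a * g) * z) * g⁻¹ := by group
    _ = g * (z * (g⁻¹ * a * g)) * g⁻¹ := by rw [(hz.2 q A h1 h2 h3 h4 h5 _ ha').eq]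
    _ = g * z * g⁻¹ * a := by group

theorem pow_mem_fixGroup (ρ : H →* Module.End K V) (hρ : Function.Injective ρ) (S : Subgroup H) (k : ℕ)
    (hexp : ∀ s ∈ S, s ^ 2 ^ (k + 1) = 1) (hdeg : ∀ s ∈ S, (ρ s - 1) ^ (2 ^ (k + 1) - 1) = 0)
    {s : H} (hs : s ∈ S) : s ^ 2 ^ k ∈ fixGroup S := by
  refine ⟨pow_mem hs _, fun q A h1 h2 h3 h4 h5 a ha => ?_⟩
  haveI := Fact.mk h1
  haveI : Fact (Nat.Prime 2) := ⟨Nat.prime_two⟩
  exact pow_centralizes_abelian h2 ρ hρ s (hexp s hs) (hdeg s hs) A h3 (h4 hs) h5 a ha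

section ClassTwo

variable {q : ℕ} [Fact q.Prime] {Q : Subgroup H} [hQ2 : Fact (ClassTwo Q)]

theorem fixGroup_cen_commute (hq2 : q ≠ 2) (hQ : IsPGroup q Q) {S : Subgroup H} (hSQ : S ≤ normalizer (Q : Set H))
    {m : H} (hm : m ∈ fixGroup S) {z : H} (hz : z ∈ cenIn Q) : Commute z m :=
  hm.2 q (cenIn Q) Fact.out hq2 (hQ.to_le inf_le_left)
    (fun g hg => mem_normalizer_of_conj_le fun _ hz => cen_conj (hSQ hg) hz)
    (fun _ ha _ hb => cen_comm hb ha.1) z hz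

theorem fixGroup_le_stab (hq2 : q ≠ 2) (hQ : IsPGroup q Q) {S : Subgroup H} (hSQ : S ≤ normalizer (Q : Set H))
    (χ : cenIn Q →* Kˣ) {m : H} (hm : m ∈ fixGroup S) : m ∈ stabChar χ := by
  refine ⟨hSQ hm.1, fun z => congrArg χ (Subtype.ext ?_)⟩
  show m * (z : H) * m⁻¹ = z
  rw [← (fixGroup_cen_commute hq2 hQ hSQ hm z.2).eq, mul_inv_cancel_right]

/-- The transported character. -/
def conjChar (χ : cenIn Q →* Kˣ) {t : H} (ht : t ∈ normalizer (Q : Set H)) : cenIn Q →* Kˣ :=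
  χ.comp
    { toFun := fun z => ⟨t * z * t⁻¹, cen_conj ht z.2⟩
      map_one' := Subtype.ext (by simp)
      map_mul' := fun a b => Subtype.ext (by
        show t * ((a : H) * b) * t⁻¹ = (t * a * t⁻¹) * (t * b * t⁻¹)
        group) }

theorem comVal_conjChar (χ : cenIn Q →* Kˣ) {t : H} (ht : t ∈ normalizer (Q : Set H)) (a b : Q) :
    comVal (conjChar χ ht) a b =
      comVal χ (Q.normalizerMonoidHom ⟨t, ht⟩ a) (Q.normalizerMonoidHom ⟨t, ht⟩ b) := by
  refine congrArg χ (Subtype.ext ?_)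
  show t * ⁅(a : H), (b : H)⁆ * t⁻¹ = ⁅t * a * t⁻¹, t * b * t⁻¹⁆
  simp only [commutatorElement_def]
  group

theorem actQuot_conjChar (χ : cenIn Q →* Kˣ) {t : H} (ht : t ∈ normalizer (Q : Set H)) {m : H}
    (hm : m ∈ stabChar (conjChar χ ht)) (hm' : t * m * t⁻¹ ∈ stabChar χ)
    (h : actQuot χ ⟨_, hm'⟩ = 1) : actQuot (conjChar χ ht) ⟨m, hm⟩ = 1 := by
  rw [actQuot_eq_one_iff] at h ⊢
  intro a b
  rw [comVal_conjChar]
  have h1 := h (Q.normalizerMonoidHom ⟨t, ht⟩ a) (Q.normalizerMonoidHom ⟨t, ht⟩ b)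
  convert h1 using 3
  refine Subtype.ext ?_
  show t * (m * (a : H) * m⁻¹ * (a : H)⁻¹) * t⁻¹ = t * m * t⁻¹ * (t * (a : H) * t⁻¹) * (t * m * t⁻¹)⁻¹ * (t * (a : H) * t⁻¹)⁻¹
  group

/-- The images of the involutions agree where one is non-trivial. -/
theorem act_conj_eq (hq2 : q ≠ 2) (ρ : H →* Module.End K V) (hQ : IsPGroup q Q) (S : Subgroup H)
    (hS : IsPGroup 2 S) (hSQ : S ≤ normalizer (Q : Set H)) (k : ℕ)
    (hexp : ∀ s ∈ S, s ^ 2 ^ (k + 1) = 1) (hdeg : ∀ s ∈ S, (ρ s - 1) ^ (2 ^ (k + 1) - 1) = 0)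
    (hF : ∀ s ∈ S, s ^ 2 ^ k ∈ fixGroup S)
    (g x : H) (hg : g ∈ S) (hx : x ∈ S) (e : H) (he : e = g ^ 2 ^ (k - 1) * (x ^ 2 ^ (k - 1))⁻¹)
    (he2 : e ^ 2 ∈ fixGroup S) (he4 : e ^ 4 = 1)
    (χ : cenIn Q →* Kˣ) (v : V) (hv0 : v ≠ 0) (hv : v ∈ charSpace ρ χ)
    (hy : x ^ 2 ^ k ∈ stabChar χ) (hy' : e⁻¹ * x ^ 2 ^ k * e ∈ stabChar χ) (hne : actQuot χ ⟨_, hy⟩ ≠ 1) :
    actQuot χ ⟨_, hy'⟩ = actQuot χ ⟨_, hy⟩ := by
  classical
  haveI : Fact (Nat.Prime 2) := ⟨Nat.prime_two⟩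
  obtain ⟨hy₀, hcase⟩ := support hq2 ρ hQ χ v hv0 hv x k (hexp x hx) (hdeg x hx) (hSQ hx)
  obtain ⟨hq4, hk, hb, hsm⟩ := hcase.resolve_left hne
  have hodd : Odd (Nat.card Q) := by
    obtain ⟨m, hm⟩ := IsPGroup.iff_card.1 hQ
    rw [hm]
    exact ((Fact.out : q.Prime).odd_of_ne_two hq2).pow
  have hc := goodForm χ hodd
  set T : Subgroup (MulAut (CharQuot χ)) := (S.subgroupOf (stabChar χ)).map (actQuot χ) with hT
  have hTp : IsPGroup 2 T := (hS.comap_of_injective _ (stabChar χ).subtype_injective).map _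
  have hTc : ∀ t ∈ T, KeepsForm (formQuot χ) t := by rintro _ ⟨m, -, rfl⟩; exact actQuot_keeps χ m
  have hmemT : ∀ m : stabChar χ, (m : H) ∈ S → actQuot χ m ∈ T := fun m h => ⟨m, h, rfl⟩
  set b := x ^ 2 ^ (k - 1) with hbdef
  set a := g ^ 2 ^ (k - 1) with hadef
  have hbb : b * b = x ^ 2 ^ k := by rw [hbdef, ← pow_add, ← two_mul, ← pow_succ', show k - 1 + 1 = k by omega]
  have haa : a * a = g ^ 2 ^ k := by rw [hadef, ← pow_add, ← two_mul, ← pow_succ', show k - 1 + 1 = k by omega]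
  have heb : a = e * b := by rw [he]; group
  have heS : e ∈ S := he ▸ mul_mem (pow_mem hg _) (inv_mem (pow_mem hx _))
  set β := actQuot χ ⟨b, hb⟩ with hβ
  have hββ : β * β = actQuot χ ⟨_, hy⟩ := by rw [hβ, ← map_mul]; congr 1; exact Subtype.ext hbb
  have hβT : β ∈ T := hmemT _ (pow_mem hx _)
  have hneP : ∃ p ∈ yPlane β, p ≠ 1 := by
    by_contra hh
    push Not at hh
    refine hne (MulEquiv.ext fun z => ?_)
    obtain ⟨p, r, rfl, hp, hr⟩ := hsm.split hc z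
    rw [← hββ, hh p hp, one_mul, MulAut.mul_apply, hr, hr, MulAut.one_apply]
  have he2χ : e ^ 2 ∈ stabChar χ := fixGroup_le_stab hq2 hQ hSQ χ he2
  have haaχ : a * a ∈ stabChar χ := haa ▸ fixGroup_le_stab hq2 hQ hSQ χ (hF g hg)
  by_cases hα : actQuot χ ⟨_, haaχ⟩ = 1
  · have hb'e : e⁻¹ * b * e = (e ^ 2)⁻¹ * (a * a) * b⁻¹ := by rw [heb, pow_two]; group
    have hb' : e⁻¹ * b * e ∈ stabChar χ := hb'e ▸ mul_mem (mul_mem (inv_mem he2χ) haaχ) (inv_mem hb)
    set γ := actQuot χ ⟨_, hb'⟩ with hγ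
    have hγβ : γ * β = actQuot χ ⟨_, inv_mem he2χ⟩ := by
      have h1 : (⟨_, hb'⟩ : stabChar χ) * ⟨b, hb⟩ = ⟨_, inv_mem he2χ⟩ * ⟨_, haaχ⟩ :=
        Subtype.ext (by show e⁻¹ * b * e * b = (e ^ 2)⁻¹ * (a * a); rw [hb'e, inv_mul_cancel_right])
      rw [hγ, hβ, ← map_mul, h1, map_mul, hα, mul_one]
    have hprod : (γ * β) * (γ * β) = 1 := by
      rw [hγβ, ← map_mul, show (⟨_, inv_mem he2χ⟩ : stabChar χ) * ⟨_, inv_mem he2χ⟩ = 1 from Subtype.ext (by
        show (e ^ 2)⁻¹ * (e ^ 2)⁻¹ = 1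
        rw [← mul_inv_rev, ← pow_add, he4, inv_one]), map_one]
    have hx' : e⁻¹ * x * e ∈ S := mul_mem (mul_mem (inv_mem heS) hx) heS
    have hpow : ∀ i : ℕ, (e⁻¹ * x * e) ^ i = e⁻¹ * x ^ i * e := fun i => by
      have h := conj_pow (a := e⁻¹) (b := x) (i := i)
      rwa [inv_inv] at h
    have hγ2 : γ * γ = actQuot χ ⟨_, hy'⟩ := by
      rw [hγ, ← map_mul]
      congr 1
      exact Subtype.ext (by show e⁻¹ * b * e * (e⁻¹ * b * e) = e⁻¹ * x ^ 2 ^ k * e; rw [← hbb]; group)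
    have hγcase : (∀ z, γ (γ z) = z) ∨ SmallAut q γ := by
      obtain ⟨hy₁, hcase'⟩ := support hq2 ρ hQ χ v hv0 hv _ k (hexp _ hx') (hdeg _ hx') (hSQ hx')
      rcases hcase' with h | ⟨-, -, hb₁, hsm'⟩
      · refine Or.inl fun z => ?_
        have h2 : γ * γ = 1 := by
          rw [hγ2, ← h]
          congr 1
          exact Subtype.ext (hpow _).symm
        exact DFunLike.congr_fun h2 z
      · refine Or.inr ?_
        rwa [show (⟨_, hb₁⟩ : stabChar χ) = ⟨_, hb'⟩ from Subtype.ext (hpow _)] at hsm'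
    rw [← hγ2, ← hββ]
    exact MulEquiv.ext fun z => sq_eq_of_product hq4 hc T hTp hTc hβT
      (hmemT _ (mul_mem (mul_mem (inv_mem heS) (pow_mem hx _)) heS)) hsm hneP hprod hγcase z
  · obtain ⟨hy₂, hcase₂⟩ := support hq2 ρ hQ χ v hv0 hv g k (hexp g hg) (hdeg g hg) (hSQ hg)
    obtain ⟨-, -, ha', hsa⟩ := hcase₂.resolve_left (fun h => hα (by
      rw [← h]; congr 1; exact Subtype.ext haa))
    have heχ : e ∈ stabChar χ := he ▸ mul_mem ha' (inv_mem hb)
    set α := actQuot χ ⟨a, ha'⟩ with hαdef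
    have hε : actQuot χ ⟨e, heχ⟩ = α * β⁻¹ := by
      rw [hαdef, hβ, ← map_inv, ← map_mul]
      congr 1
      exact Subtype.ext he
    have hy'' : actQuot χ ⟨_, hy'⟩ = (α * β⁻¹)⁻¹ * (β * β) * (α * β⁻¹) := by
      rw [← hε, hββ, ← map_inv, ← map_mul, ← map_mul]
      rfl
    rw [hy'', ← hββ]
    exact MulEquiv.ext fun z => sq_eq_of_quotient hq4 hc T hTp hTc hβT (hmemT _ (pow_mem hg _)) hsm hsa z

/-- The commutator acts trivially on each invariant group of class two. -/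
theorem centralizes_class_two_group (hq2 : q ≠ 2) (ρ : H →* Module.End K V) (hρ : Function.Injective ρ)
    (hQ : IsPGroup q Q) (S : Subgroup H) (hS : IsPGroup 2 S) (hSQ : S ≤ normalizer (Q : Set H)) (k : ℕ)
    (hexp : ∀ s ∈ S, s ^ 2 ^ (k + 1) = 1) (hdeg : ∀ s ∈ S, (ρ s - 1) ^ (2 ^ (k + 1) - 1) = 0)
    (g x : H) (hg : g ∈ S) (hx : x ∈ S) (e : H) (he : e = g ^ 2 ^ (k - 1) * (x ^ 2 ^ (k - 1))⁻¹)
    (he2 : e ^ 2 ∈ fixGroup S) (he4 : e ^ 4 = 1) (u : H) (hu : u ∈ Q) :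
    Commute u ((x ^ 2 ^ k)⁻¹ * (e⁻¹ * x ^ 2 ^ k * e)) := by
  classical
  have hF : ∀ s ∈ S, s ^ 2 ^ k ∈ fixGroup S := fun s hs => pow_mem_fixGroup ρ hρ S k hexp hdeg hs
  set y := x ^ 2 ^ k with hy
  have heS : e ∈ S := he ▸ mul_mem (pow_mem hg _) (inv_mem (pow_mem hx _))
  have hyF : y ∈ fixGroup S := hF x hx
  have hy'F : e⁻¹ * y * e ∈ fixGroup S := (mem_normalizer_iff''.1 (le_normalizer_fixGroup S heS) y).1 hyF
  set d := y⁻¹ * (e⁻¹ * y * e) with hd
  have hdF : d ∈ fixGroup S := mul_mem (inv_mem hyF) hy'F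
  have hdz : ∀ z ∈ cenIn Q, Commute z d := fun z hz => fixGroup_cen_commute hq2 hQ hSQ hdF hz
  -- the action at every character
  have hact : ∀ (χ : cenIn Q →* Kˣ) (v : V), v ≠ 0 → v ∈ charSpace ρ χ →
      actQuot χ ⟨d, fixGroup_le_stab hq2 hQ hSQ χ hdF⟩ = 1 := by
    intro χ v hv0 hv
    have h1 := fixGroup_le_stab hq2 hQ hSQ χ hyF
    have h2 := fixGroup_le_stab hq2 hQ hSQ χ hy'F
    have heq : actQuot χ ⟨_, h2⟩ = actQuot χ ⟨_, h1⟩ := by
      by_cases hne : actQuot χ ⟨_, h1⟩ = 1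
      · by_contra hne'
        rw [hne] at hne'
        have ht : e⁻¹ ∈ normalizer (Q : Set H) := hSQ (inv_mem heS)
        set χ' := conjChar χ ht with hχ'
        have hv' : ρ e v ∈ charSpace ρ χ' := mem_charSpace.2 fun z => by
          have h3 : (z : H) * e = e * (e⁻¹ * z * e⁻¹⁻¹) := by group
          rw [← Module.End.mul_apply, ← map_mul, h3, map_mul, Module.End.mul_apply,
            mem_charSpace.1 hv ⟨_, cen_conj ht z.2⟩, map_smul]
          rfl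
        have hv'0 : ρ e v ≠ 0 := fun h => hv0 (by
          have := congrArg (ρ e⁻¹) h
          rwa [← Module.End.mul_apply, ← map_mul, inv_mul_cancel, map_one, Module.End.one_apply, map_zero] at this)
        have h1' := fixGroup_le_stab hq2 hQ hSQ χ' hyF
        have h2' := fixGroup_le_stab hq2 hQ hSQ χ' hy'F
        have hne1 : actQuot χ' ⟨_, h1'⟩ ≠ 1 := fun h => hne' (by
          have hmem : e * (e⁻¹ * y * e) * e⁻¹ ∈ stabChar χ' := by
            rwa [show e * (e⁻¹ * y * e) * e⁻¹ = y by group]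
          have hE : e ∈ normalizer (Q : Set H) := hSQ heS
          have hback : e⁻¹ * y * e ∈ stabChar (conjChar χ' hE) := fixGroup_le_stab hq2 hQ hSQ _ hy'F
          have h4 := actQuot_conjChar χ' hE hback hmem (by
            rw [← h]; congr 1; exact Subtype.ext (by group))
          have hχ : conjChar χ' hE = χ := MonoidHom.ext fun z => congrArg χ (Subtype.ext (by
            show e⁻¹ * (e * (z : H) * e⁻¹) * e⁻¹⁻¹ = z
            group))
          rw [actQuot_eq_one_iff] at h4 ⊢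
          intro a b
          have h5 := h4 a b
          simp only [hχ] at h5
          exact h5)
        have h3 := act_conj_eq hq2 ρ hQ S hS hSQ k hexp hdeg hF g x hg hx e he he2 he4 χ' _ hv'0 hv' h1' h2' hne1
        refine hne1 (h3 ▸ ?_)
        have hmem : e⁻¹ * (e⁻¹ * y * e) * e⁻¹⁻¹ ∈ stabChar χ := by
          have he2χ := fixGroup_le_stab hq2 hQ hSQ χ he2
          have := mul_mem (mul_mem (inv_mem he2χ) h1) he2χ
          rwa [show e⁻¹ * (e⁻¹ * y * e) * e⁻¹⁻¹ = (e ^ 2)⁻¹ * y * e ^ 2 by rw [pow_two]; group]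
        refine actQuot_conjChar χ ht h2' hmem ?_
        have he2χ := fixGroup_le_stab hq2 hQ hSQ χ he2
        rw [show (⟨_, hmem⟩ : stabChar χ) = (⟨_, he2χ⟩ : stabChar χ)⁻¹ * ⟨y, h1⟩ * ⟨_, he2χ⟩ from
          Subtype.ext (by show _ = (e ^ 2)⁻¹ * y * e ^ 2; rw [pow_two]; group),
          map_mul, map_mul, map_inv, hne, mul_one, inv_mul_cancel]
      · exact act_conj_eq hq2 ρ hQ S hS hSQ k hexp hdeg hF g x hg hx e he he2 he4 χ v hv0 hv h1 h2 hne
    rw [show (⟨d, _⟩ : stabChar χ) = (⟨y, h1⟩ : stabChar χ)⁻¹ * ⟨_, h2⟩ from rfl, map_mul, map_inv, heq,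
      inv_mul_cancel]
  -- the commutator with an element is central
  have hdQ : d ∈ normalizer (Q : Set H) := hSQ hdF.1
  set z := d * u * d⁻¹ * u⁻¹ with hz
  have hzQ : z ∈ Q := mul_mem ((mem_normalizer_iff.1 hdQ u).1 hu) (inv_mem hu)
  have hzc : z ∈ cenIn Q := by
    refine ⟨hzQ, mem_centralizer_iff.2 fun w hw => ?_⟩
    have hcomm : ⁅z, w⁆ = 1 := by
      set Z := cenIn Q
      have hZcomm : ∀ a b : Z, a * b = b * a := fun a b => Subtype.ext (cen_comm b.2 a.2.1)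
      have hZK : ((Nat.card Z : ℕ) : K) ≠ 0 := by
        obtain ⟨m, hm⟩ := IsPGroup.iff_card.1 (hQ.to_le (inf_le_left : Z ≤ Q))
        rw [hm, Nat.cast_pow]
        exact pow_ne_zero _ fun h => hq2
          ((Nat.prime_dvd_prime_iff_eq Nat.prime_two (Fact.out : q.Prime)).1 ((CharP.cast_eq_zero_iff K 2 q).1 h)).symm
      refine hρ (LinearMap.ext_on (common_eigen_span hZcomm hZK (ρ.comp Z.subtype)) fun v hv => ?_)
      rw [map_one, Module.End.one_apply]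
      by_cases hv0 : v = 0
      · rw [hv0, map_zero]
      choose f hf using hv
      have hmul : ∀ a b : Z, f (a * b) = f a * f b := fun a b => smul_left_injective K hv0 (by
        show f (a * b) • v = (f a * f b) • v
        rw [← hf, map_mul, Module.End.mul_apply, hf, map_smul, hf, smul_smul, mul_comm])
      have hone : f 1 = 1 := smul_left_injective K hv0 (by
        show f 1 • v = (1 : K) • v
        rw [← hf, map_one, Module.End.one_apply, one_smul])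
      let χ : Z →* Kˣ := MonoidHom.toHomUnits ⟨⟨f, hone⟩, hmul⟩
      have hvχ : v ∈ charSpace ρ χ := mem_charSpace.2 fun a => hf a
      have h1 := (actQuot_eq_one_iff χ _).1 (hact χ v hv0 hvχ) ⟨u, hu⟩ ⟨w, hw⟩
      have h2 := congrArg Units.val h1
      change f ⟨⁅z, w⁆, _⟩ = 1 at h2
      have h3 := hf ⟨⁅z, w⁆, (hQ2.out) z hzQ w hw⟩
      rw [h2, one_smul] at h3
      exact h3
    exact (commutatorElement_eq_one_iff_mul_comm.1 hcomm).symm
  have hiter : ∀ i : ℕ, d ^ i * u * (d ^ i)⁻¹ = z ^ i * u := by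
    intro i
    induction i with
    | zero => simp
    | succ i ih =>
      calc d ^ (i + 1) * u * (d ^ (i + 1))⁻¹ = d * (d ^ i * u * (d ^ i)⁻¹) * d⁻¹ := by rw [pow_succ']; group
        _ = (d * z ^ i * d⁻¹) * (d * u * d⁻¹) := by rw [ih]; group
        _ = z ^ i * (z * u) := by
          rw [((hdz z hzc).pow_left i).symm.eq, mul_inv_cancel_right, show z * u = d * u * d⁻¹ by rw [hz]; group]
        _ = z ^ (i + 1) * u := by rw [pow_succ z i, mul_assoc (z ^ i) z u]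
  have h1 := hiter (2 ^ (k + 1))
  rw [hexp d hdF.1, one_mul, inv_one, mul_one] at h1
  have hz1 : z = 1 := by
    have h2 : z ^ 2 ^ (k + 1) = 1 := right_eq_mul.1 h1
    obtain ⟨j, hj⟩ := IsPGroup.iff_orderOf.1 hQ ⟨z, hzQ⟩
    rw [Subgroup.orderOf_mk] at hj
    exact orderOf_eq_one_iff.1 (Nat.eq_one_of_dvd_coprimes
      (Nat.Coprime.pow j (k + 1) ((Nat.coprime_primes (Fact.out : q.Prime) Nat.prime_two).2 hq2))
      hj.dvd (orderOf_dvd_of_pow_eq_one h2))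
  show u * d = d * u
  rw [hz, mul_inv_eq_one] at hz1
  exact (mul_inv_eq_iff_eq_mul.1 hz1).symm

end ClassTwo

/-- A conjugate differing by a root of the square fixes the highest powers. -/
theorem agemo_relation (hsol : Cfsg.IsPSolvable 2 H) (hO : Cfsg.pCore 2 H = ⊥) (ρ : H →* Module.End K V)
    (hρ : Function.Injective ρ) (S : Subgroup H) (hS : IsPGroup 2 S) (k : ℕ)
    (hexp : ∀ s ∈ S, s ^ 2 ^ (k + 1) = 1) (hdeg : ∀ s ∈ S, (ρ s - 1) ^ (2 ^ (k + 1) - 1) = 0)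
    (g x : H) (hg : g ∈ S) (hx : x ∈ S) (e : H) (he : e = g ^ 2 ^ (k - 1) * (x ^ 2 ^ (k - 1))⁻¹)
    (he2 : e ^ 2 ∈ fixGroup S) (he4 : e ^ 4 = 1) : Commute e (x ^ 2 ^ k) := by
  classical
  haveI : Fact (Nat.Prime 2) := ⟨Nat.prime_two⟩
  set R := Cfsg.pPrimeCore 2 H
  have hRcop := Cfsg.Lib.Components.coprime_card_pPrimeCore (G := H) 2
  haveI : R.Normal := Cfsg.Lib.Components.pPrimeCore_normal' 2
  have hSR : S ≤ normalizer (R : Set H) := by rw [normalizer_eq_top_iff.2 inferInstance]; exact le_top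
  have hcopS : (Nat.card S).Coprime (Nat.card R) := by
    obtain ⟨i, hi⟩ := IsPGroup.iff_card.1 hS
    rw [hi]
    exact hRcop.symm.pow_left _
  have heS : e ∈ S := he ▸ mul_mem (pow_mem hg _) (inv_mem (pow_mem hx _))
  set d := (x ^ 2 ^ k)⁻¹ * (e⁻¹ * x ^ 2 ^ k * e) with hd
  have hdS : d ∈ S := mul_mem (inv_mem (pow_mem hx _)) (mul_mem (mul_mem (inv_mem heS) (pow_mem hx _)) heS)
  suffices hdR : d ∈ centralizer (R : Set H) by
    have hd1 := Cfsg.Lib.Coprime.eq_one_of_coprime hcopS hdS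
      (Cfsg.Agent.S4748.centralizer_pPrimeCore_le 2 hsol hO hdR)
    rw [hd, inv_mul_eq_one] at hd1
    show e * x ^ 2 ^ k = x ^ 2 ^ k * e
    calc e * x ^ 2 ^ k = e * (e⁻¹ * x ^ 2 ^ k * e) := by rw [← hd1]
      _ = x ^ 2 ^ k * e := by group
  refine mem_centralizer_iff.2 fun r hr => ?_
  set C := (centralizer ({d} : Set H)).subgroupOf R
  suffices hC : C = ⊤ by
    have h1 : (⟨r, hr⟩ : R) ∈ C := hC ▸ mem_top _
    exact mem_centralizer_singleton_iff.1 h1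
  rw [← index_eq_one, Nat.eq_one_iff_not_exists_prime_dvd]
  intro q hq hdvd
  haveI := Fact.mk hq
  haveI : Group.IsNilpotent S := hS.isNilpotent
  obtain ⟨T, hT⟩ := Cfsg.Lib.Coprime.exists_invariant_sylow hSR hcopS (Or.inl inferInstance) q
  refine T.not_dvd_index (hdvd.trans (index_dvd_of_le fun t ht => ?_))
  set T₀ := (T : Subgroup R).map R.subtype
  have hT₀ : IsPGroup q T₀ := T.2.map _
  refine mem_centralizer_singleton_iff.2 ?_
  by_cases hq2 : q = 2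
  · subst hq2
    obtain ⟨i, hi⟩ := IsPGroup.iff_card.1 hT₀
    rcases Nat.eq_zero_or_pos i with rfl | hpos
    · have htT : (t : H) ∈ T₀ := mem_map_of_mem _ ht
      rw [pow_zero] at hi
      rw [eq_bot_of_card_eq T₀ hi, mem_bot] at htT
      show (t : H) * d = d * (t : H)
      rw [htT, one_mul, mul_one]
    · exact absurd (Nat.eq_one_of_dvd_coprimes hRcop
        ((dvd_pow_self 2 hpos.ne').trans (hi ▸ card_dvd_of_le (map_subtype_le _))) dvd_rfl) (by norm_num)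
  obtain ⟨Hc, hHchar, -, hHcomm, hHcen⟩ := Cfsg.Lib.SolvStruct.exists_critical hT₀
  set Q := Hc.map T₀.subtype with hQ
  have hQT : Q ≤ T₀ := map_subtype_le _
  haveI hQ2 : Fact (ClassTwo Q) := ⟨by
    rintro _ ⟨a, ha, rfl⟩ _ ⟨b, hb, rfl⟩
    obtain ⟨h1, h2⟩ := hHcomm (commutator_mem_commutator ha (mem_top b))
    refine ⟨⟨⁅a, b⁆, h1, map_commutatorElement T₀.subtype a b⟩, mem_centralizer_iff.2 ?_⟩
    rintro _ ⟨c, hc, rfl⟩
    rw [← map_commutatorElement, ← map_mul, ← map_mul, mem_centralizer_iff.1 h2 c hc]⟩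
  have hSQ : S ≤ normalizer (Q : Set H) := by
    intro s hs
    refine mem_normalizer_of_conj_le ?_
    rintro _ ⟨z, hz, rfl⟩
    exact ⟨T₀.normalizerMonoidHom ⟨s, hT hs⟩ z,
      (le_of_eq (hHchar.fixed (T₀.normalizerMonoidHom ⟨s, hT hs⟩)).symm) hz, rfl⟩
  have hcQ : ∀ u ∈ Q, Commute u d := fun u hu =>
    centralizes_class_two_group hq2 ρ hρ (hT₀.to_le hQT) S hS hSQ k hexp hdeg g x hg hx e he he2 he4 u hu
  -- from the critical subgroup to the Sylow subgroup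
  have hdT : d ∈ normalizer (T₀ : Set H) := hT hdS
  have htT : (t : H) ∈ T₀ := mem_map_of_mem _ ht
  set u := (t : H)
  set z := d * u * d⁻¹ * u⁻¹ with hz
  have hzT : z ∈ T₀ := mul_mem ((mem_normalizer_iff.1 hdT u).1 htT) (inv_mem htT)
  have hzQ : z ∈ Q := by
    refine ⟨⟨z, hzT⟩, hHcen (mem_centralizer_iff.2 fun h hh => Subtype.ext ?_), rfl⟩
    show (h : H) * z = z * (h : H)
    have h1 : (u⁻¹ * (h : H) * u) ∈ Q := by
      have := (hHchar.fixed (MulAut.conj (⟨u, htT⟩⁻¹ : T₀))).ge hh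
      exact ⟨_, this, by simp [u]⟩
    have hconj : ∀ w, Commute w d → d * w * d⁻¹ = w := fun w hw => by rw [← hw.eq, mul_inv_cancel_right]
    have h2 : (d * u * d⁻¹)⁻¹ * (h : H) * (d * u * d⁻¹) = u⁻¹ * (h : H) * u := by
      conv_lhs => rw [← hconj (h : H) (hcQ _ ⟨h, hh, rfl⟩)]
      calc (d * u * d⁻¹)⁻¹ * (d * (h : H) * d⁻¹) * (d * u * d⁻¹) = d * (u⁻¹ * (h : H) * u) * d⁻¹ := by group
        _ = _ := hconj _ (hcQ _ h1)
    rw [hz]
    calc (h : H) * (d * u * d⁻¹ * u⁻¹) = (d * u * d⁻¹) * ((d * u * d⁻¹)⁻¹ * (h : H) * (d * u * d⁻¹)) * u⁻¹ := by group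
      _ = (d * u * d⁻¹) * (u⁻¹ * (h : H) * u) * u⁻¹ := by rw [h2]
      _ = _ := by group
  have hiter : ∀ i : ℕ, d ^ i * u * (d ^ i)⁻¹ = z ^ i * u := by
    intro i
    induction i with
    | zero => simp
    | succ i ih =>
      calc d ^ (i + 1) * u * (d ^ (i + 1))⁻¹ = d * (d ^ i * u * (d ^ i)⁻¹) * d⁻¹ := by rw [pow_succ']; group
        _ = (d * z ^ i * d⁻¹) * (d * u * d⁻¹) := by rw [ih]; group
        _ = z ^ i * (z * u) := by
          rw [((hcQ z hzQ).pow_left i).symm.eq, mul_inv_cancel_right, show z * u = d * u * d⁻¹ by rw [hz]; group]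
        _ = z ^ (i + 1) * u := by rw [pow_succ z i, mul_assoc (z ^ i) z u]
  have h1 := hiter (2 ^ (k + 1))
  rw [hexp d hdS, one_mul, inv_one, mul_one] at h1
  have hz1 : z = 1 := by
    have h2 : z ^ 2 ^ (k + 1) = 1 := right_eq_mul.1 h1
    obtain ⟨j, hj⟩ := IsPGroup.iff_orderOf.1 hT₀ ⟨z, hzT⟩
    rw [Subgroup.orderOf_mk] at hj
    exact orderOf_eq_one_iff.1 (Nat.eq_one_of_dvd_coprimes
      (Nat.Coprime.pow j (k + 1) ((Nat.coprime_primes hq Nat.prime_two).2 hq2))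
      hj.dvd (orderOf_dvd_of_pow_eq_one h2))
  show u * d = d * u
  rw [hz, mul_inv_eq_one] at hz1
  exact (mul_inv_eq_iff_eq_mul.1 hz1).symm

end Cfsg.Lib.TwoLength
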