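import Mathlib
import Cfsg.Prelude
import Cfsg.Agent.HallHigman.AgemoCommute
import Cfsg.Agent.PLocal.StableClosureApps
import Cfsg.Agent.Coprime.Sylow
import Cfsg.Agent.PGroups.Basic

/-!
The exponent drop for the prime `2`: an element of full order outside the largest normal `2`-subgroup
moves a minimal invariant `2`-group by more than the relation between highest powers allows.
-/

set_option linter.style.haveILetI false
set_option linter.unusedSectionVars false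

namespace Cfsg.Lib.TwoLength

open Module Subgroup Cfsg.Lib.HallHigman
open scoped commutatorElement

universe u v w

/-- No element with the degree bound of the relation moves an invariant group of odd prime power order. -/
theorem no_low_degree {U : Type v} [AddCommGroup U] [Module (ZMod 2) U] [Finite U] [Nontrivial U] {L : Type w}
    [Group L] [Finite L] (ρ : L →* Module.End (ZMod 2) U) (x : L) (k : ℕ) (hk : 1 ≤ k) (hx : x ^ 2 ^ (k + 1) = 1)
    (hr : (ρ x - 1) ^ (2 ^ k + (2 ^ (k - 1) - 1)) = 0) {q : ℕ} [Fact q.Prime] (hq2 : q ≠ 2) (T : Subgroup L)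
    (hT : IsPGroup q T) (hTx : x ∈ normalizer (T : Set L)) :
    ∀ a ∈ T, ρ (a * x ^ 2 ^ k) = ρ (x ^ 2 ^ k * a) := by
  classical
  by_contra hh
  push Not at hh
  obtain ⟨a, ha, hne⟩ := hh
  haveI : Fact (Nat.Prime 2) := ⟨Nat.prime_two⟩
  let b := Module.finBasis (ZMod 2) U
  let ι := AlgebraicClosure (ZMod 2)
  haveI : CharP ι 2 := charP_of_injective_algebraMap (algebraMap (ZMod 2) ι).injective 2
  let Φ : Module.End (ZMod 2) U →+* Module.End ι (Fin (finrank (ZMod 2) U) → ι) :=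
    ((Matrix.toLinAlgEquiv' : Matrix _ _ ι ≃ₐ[ι] _).toRingEquiv.toRingHom.comp
      (algebraMap (ZMod 2) ι).mapMatrix).comp (LinearMap.toMatrixAlgEquiv b).toRingEquiv.toRingHom
  have hΦ : Function.Injective Φ := by
    intro f g e
    exact (LinearMap.toMatrixAlgEquiv b).injective
      (Matrix.map_injective (algebraMap (ZMod 2) ι).injective (Matrix.toLinAlgEquiv'.injective e))
  haveI : Nonempty (Fin (finrank (ZMod 2) U)) := ⟨⟨0, Module.finrank_pos⟩⟩
  let σ : L →* (Module.End (ZMod 2) U)ˣ := ρ.toHomUnits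
  set Γ := σ.range
  haveI : Finite Γ := .of_surjective σ.rangeRestrict σ.rangeRestrict_surjective
  let ρK : Γ →* Module.End ι (Fin (finrank (ZMod 2) U) → ι) :=
    Φ.toMonoidHom.comp ((Units.coeHom (Module.End (ZMod 2) U)).comp Γ.subtype)
  have hρK : Function.Injective ρK := fun g h e => Subtype.ext (Units.ext (hΦ e))
  set X := σ.rangeRestrict x
  have hX : X ^ 2 ^ (k + 1) = 1 := by rw [← map_pow, hx, map_one]
  set r := 2 ^ k + (2 ^ (k - 1) - 1) with hrdef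
  have hrK : (ρK X - 1) ^ r = 0 := by
    show (Φ (ρ x) - 1) ^ r = 0
    rw [← map_one Φ, ← map_sub, ← map_pow, hr, map_zero]
  have h2k : 2 ^ (k + 1) = 4 * 2 ^ (k - 1) := by
    rw [show k + 1 = k - 1 + 2 by omega, pow_add]; ring
  have h2k' : 2 ^ k = 2 * 2 ^ (k - 1) := by rw [← pow_succ', show k - 1 + 1 = k by omega]
  have hMpos := Nat.two_pow_pos (k - 1)
  obtain ⟨Q, hQ, hQx, hQm, hcase⟩ := exists_critical_subgroup (p := 2) hq2 X (X ^ 2 ^ k)
    (Commute.self_pow X _).eq (by rw [← pow_mul, ← pow_succ, hX]) (pow_mem (mem_zpowers X) _)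
    (T.map σ.rangeRestrict) (hT.map _)
    (mem_normalizer_of_conj_le (by
      rintro _ ⟨t, ht, rfl⟩
      exact ⟨x * t * x⁻¹, (mem_normalizer_iff.1 hTx t).1 ht, by simp [X]⟩))
    ⟨σ.rangeRestrict a, ⟨a, ha, rfl⟩, fun e => hne (by
      rw [← map_pow, ← map_mul, ← map_mul] at e
      exact congrArg (fun g : Γ => ((g : (Module.End (ZMod 2) U)ˣ) : Module.End (ZMod 2) U)) e)⟩
  rcases hcase with hc | ⟨hZ, hcl⟩
  · exact abelian_bound hq2 ρK hρK X hX Q hQ hQx hQm hc (pow_eq_zero_of_le (by omega) hrK)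
  obtain ⟨n₀, m, h1, h2, h3, h4, h5⟩ := critical_bound hq2 ρK hρK X hX Q hQ hQx hQm hZ hcl r hrK (by omega)
  have hn₀ : 2 ≤ n₀ := by
    by_contra h
    rw [show n₀ = 1 by omega] at h4
    have := Nat.one_lt_pow (show m ≠ 0 by omega) (Fact.out : q.Prime).one_lt
    omega
  rw [Nat.mul_sub, mul_one, ← pow_add, show k + 1 - n₀ + n₀ = k + 1 by omega] at h5
  have h6 : 2 ^ (k + 1 - n₀) ≤ 2 ^ (k - 1) := Nat.pow_le_pow_right (by norm_num) (by omega)
  omega

/-- An element with powers fixing its conjugates by a coprime element fixes them. -/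
theorem commute_of_fixed_commutator {G : Type*} [Group G] {d u : G} {i : ℕ} (hd : d ^ i = 1)
    (hz : Commute (d * u * d⁻¹ * u⁻¹) d) (hcop : (orderOf (d * u * d⁻¹ * u⁻¹)).Coprime i) : Commute d u := by
  set z := d * u * d⁻¹ * u⁻¹ with hz0
  have hiter : ∀ j : ℕ, d ^ j * u * (d ^ j)⁻¹ = z ^ j * u := by
    intro j
    induction j with
    | zero => simp
    | succ j ih =>
      calc d ^ (j + 1) * u * (d ^ (j + 1))⁻¹ = d * (d ^ j * u * (d ^ j)⁻¹) * d⁻¹ := by rw [pow_succ']; group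
        _ = (d * z ^ j * d⁻¹) * (d * u * d⁻¹) := by rw [ih]; group
        _ = z ^ j * (z * u) := by
          rw [(hz.pow_left j).symm.eq, mul_inv_cancel_right, show z * u = d * u * d⁻¹ by rw [hz0]; group]
        _ = z ^ (j + 1) * u := by rw [pow_succ z j, mul_assoc (z ^ j) z u]
  have h1 := hiter i
  rw [hd, one_mul, inv_one, mul_one] at h1
  have h2 : z = 1 := orderOf_eq_one_iff.1
    (Nat.eq_one_of_dvd_coprimes hcop dvd_rfl (orderOf_dvd_of_pow_eq_one (right_eq_mul.1 h1)))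
  show d * u = u * d
  rw [hz0, mul_inv_eq_one] at h2
  exact mul_inv_eq_iff_eq_mul.1 h2

/-- A minimal invariant group of odd order moved by the involution. -/
theorem exists_moved {G : Type u} [Group G] [Finite G] (hsol : Cfsg.IsPSolvable 2 G)
    (k : ℕ) (P : Sylow 2 G) (x : G) (hx : x ∈ (P : Subgroup G)) (hxo : x ^ 2 ^ (k + 1) = 1)
    (hxO : x ^ 2 ^ k ∉ Cfsg.pCore 2 G) :
    ∃ (q : ℕ) (_ : Fact q.Prime) (T : Subgroup G) (x' : G), q ≠ 2 ∧ IsPGroup q T ∧ x' ∈ (P : Subgroup G) ∧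
      x' ∈ normalizer (T : Set G) ∧ ∃ a ∈ T, a * x' ^ 2 ^ k * a⁻¹ * (x' ^ 2 ^ k)⁻¹ ∉ Cfsg.pCore 2 G := by
  classical
  haveI : Fact (Nat.Prime 2) := ⟨Nat.prime_two⟩
  set O := Cfsg.pCore 2 G with hO'
  set π := QuotientGroup.mk' O
  have hπ : Function.Surjective π := QuotientGroup.mk'_surjective O
  have hsolC := Cfsg.Lib.GaschutzYen.isPSolvable_quotient (p := 2) O hsol
  have hOC : Cfsg.pCore 2 (G ⧸ O) = ⊥ := pCore_quotient_pCore
  set R := Cfsg.pPrimeCore 2 (G ⧸ O)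
  have hRcop := Cfsg.Lib.Components.coprime_card_pPrimeCore (G := G ⧸ O) 2
  haveI : R.Normal := Cfsg.Lib.Components.pPrimeCore_normal' 2
  set X := π x
  set Y := X ^ 2 ^ k with hY
  have hY2 : Y ^ 2 = 1 := by rw [hY, ← pow_mul, ← pow_succ, ← map_pow, hxo, map_one]
  have hY1 : Y ≠ 1 := fun h => hxO ((QuotientGroup.eq_one_iff _).1 (by rwa [hY, ← map_pow] at h))
  have hYo : orderOf Y = 2 := orderOf_eq_prime hY2 hY1
  have hYR : Y ∉ R := by
    intro hh
    have h1 : orderOf (⟨Y, hh⟩ : R) ∣ Nat.card R := orderOf_dvd_natCard _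
    rw [Subgroup.orderOf_mk, hYo] at h1
    exact absurd (Nat.eq_one_of_dvd_coprimes hRcop h1 dvd_rfl) (by norm_num)
  have hXR : zpowers X ≤ normalizer (R : Set (G ⧸ O)) := by rw [normalizer_eq_top_iff.2 inferInstance]; exact le_top
  have hcopA : (Nat.card (zpowers X)).Coprime (Nat.card R) := by
    obtain ⟨j, -, hj⟩ := (Nat.dvd_prime_pow Nat.prime_two).1
      (orderOf_dvd_of_pow_eq_one (show X ^ 2 ^ (k + 1) = 1 by rw [← map_pow, hxo, map_one]))
    rw [Nat.card_zpowers, hj]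
    exact hRcop.symm.pow_left _
  obtain ⟨q, hqf, T₀, hT₀R, hT₀p, hT₀x, a₀, ha₀, hne⟩ : ∃ (q : ℕ) (_ : Fact q.Prime) (T : Subgroup (G ⧸ O)),
      T ≤ R ∧ IsPGroup q T ∧ X ∈ normalizer (T : Set (G ⧸ O)) ∧ ∃ a ∈ T, a * Y ≠ Y * a := by
    by_contra hh
    push Not at hh
    refine hYR (Cfsg.Agent.S4748.centralizer_pPrimeCore_le 2 hsolC hOC (mem_centralizer_iff.2 fun r hr => ?_))
    set C := (centralizer ({Y} : Set (G ⧸ O))).subgroupOf R
    suffices hC : C = ⊤ by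
      have h1 : (⟨r, hr⟩ : R) ∈ C := hC ▸ mem_top _
      exact mem_centralizer_singleton_iff.1 h1
    rw [← index_eq_one, Nat.eq_one_iff_not_exists_prime_dvd]
    intro q hq hdvd
    haveI := Fact.mk hq
    obtain ⟨T, hT⟩ := Cfsg.Lib.Coprime.exists_invariant_sylow hXR hcopA (Or.inl inferInstance) q
    refine T.not_dvd_index (hdvd.trans (index_dvd_of_le fun t ht => ?_))
    exact mem_centralizer_singleton_iff.2 (hh q ⟨hq⟩ _ (map_subtype_le _) (T.2.map _) (hT (mem_zpowers X)) _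
      (mem_map_of_mem _ ht))
  have hq : q.Prime := Fact.out
  have hq2 : q ≠ 2 := by
    rintro rfl
    obtain ⟨j, hj⟩ := IsPGroup.iff_card.1 hT₀p
    rcases Nat.eq_zero_or_pos j with rfl | hjpos
    · rw [pow_zero] at hj
      rw [eq_bot_of_card_eq T₀ hj, mem_bot] at ha₀
      exact hne (by rw [ha₀, one_mul, mul_one])
    · exact absurd (Nat.eq_one_of_dvd_coprimes hRcop
        ((dvd_pow_self 2 hjpos.ne').trans (hj ▸ card_dvd_of_le hT₀R)) dvd_rfl) (by norm_num)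
  -- lift to a group normalized by a representative
  set K' := T₀.comap π with hK'
  have hxK : x ∈ normalizer (K' : Set G) := mem_normalizer_of_conj_le fun z hz => by
    show π (x * z * x⁻¹) ∈ T₀
    rw [map_mul, map_mul, map_inv]
    exact (mem_normalizer_iff.1 hT₀x _).1 hz
  set L := normalizer (K' : Set G)
  set M := K'.subgroupOf L with hM
  haveI : M.Normal := normal_subgroupOf_of_le_normalizer le_rfl
  obtain ⟨S⟩ := (inferInstance : Nonempty (Sylow q M))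
  set S₁ := (S : Subgroup M).map M.subtype
  set T := S₁.map L.subtype with hT
  let f : M →* T₀ :=
    { toFun := fun m => ⟨π ((m : L) : G), m.2⟩
      map_one' := Subtype.ext (map_one π)
      map_mul' := fun a b => Subtype.ext (map_mul π _ _) }
  have hf : Function.Surjective f := by
    rintro ⟨c, hc⟩
    obtain ⟨g, rfl⟩ := hπ c
    exact ⟨⟨⟨g, le_normalizer hc⟩, hc⟩, rfl⟩
  have htop : (S : Subgroup M).map f = ⊤ :=
    (S.mapSurjective hf).is_maximal' (hT₀p.of_equiv Subgroup.topEquiv.symm) le_top |>.symm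
  have hlift : ∀ c ∈ T₀, ∃ t ∈ T, π t = c := fun c hc => by
    obtain ⟨m, hm, e⟩ := htop.ge (mem_top (⟨c, hc⟩ : T₀))
    exact ⟨_, ⟨_, ⟨m, hm, rfl⟩, rfl⟩, congrArg Subtype.val e⟩
  have hsup := Sylow.normalizer_sup_eq_top S
  have hxsup : (⟨x, hxK⟩ : L) ∈ normalizer (S₁ : Set L) ⊔ M := hsup ▸ mem_top _
  obtain ⟨κ, hκ, n, hn, hκn⟩ := mem_sup_of_normal_left.1 (sup_comm (normalizer (S₁ : Set L)) M ▸ hxsup)
  obtain ⟨t, ht, hπt⟩ := hlift (π (κ : G)) hκ
  have htN : t ∈ normalizer (T : Set G) := le_normalizer ht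
  have hnN : (n : G) ∈ normalizer (T : Set G) := mem_normalizer_of_conj_le (by
    rintro _ ⟨s, hs, rfl⟩
    exact ⟨n * s * n⁻¹, (mem_normalizer_iff.1 hn s).1 hs, rfl⟩)
  have hκx : (κ : G) * n = x := congrArg Subtype.val hκn
  set o := (κ : G) * t⁻¹
  have ho : o ∈ O := (QuotientGroup.eq_one_iff _).1 (by
    show π ((κ : G) * t⁻¹) = 1
    rw [map_mul, map_inv, hπt, mul_inv_cancel])
  have hx' : t * (n : G) = o⁻¹ * x := by rw [← hκx]; simp only [o]; group
  refine ⟨q, hqf, T, t * n, hq2, ((S.2.map _).map _), ?_, mul_mem htN hnN, ?_⟩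
  · rw [hx']
    exact mul_mem (inv_mem (Cfsg.Lib.Coprime.pCore_le_sylow 2 P ho)) hx
  obtain ⟨a, ha, hπa⟩ := hlift a₀ ha₀
  refine ⟨a, ha, fun h => hne ?_⟩
  have h1 : π (t * n) = X := by
    rw [hx', map_mul, map_inv, show π o = 1 from (QuotientGroup.eq_one_iff _).2 ho, inv_one, one_mul]
  have h2 : π (a * (t * n) ^ 2 ^ k * a⁻¹ * ((t * n) ^ 2 ^ k)⁻¹) = 1 := (QuotientGroup.eq_one_iff _).2 h
  rw [map_mul, map_mul, map_mul, map_inv, map_inv, map_pow, h1, hπa, mul_inv_eq_one] at h2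
  exact mul_inv_eq_iff_eq_mul.1 h2

theorem map_frattini_aut {G : Type u} [Group G] (E : Subgroup G) (φ : MulAut E) :
    (frattini E).map (φ : E →* E) = frattini E :=
  Subgroup.characteristic_iff_map_eq.1 inferInstance φ

/-- The action on a quotient by a characteristic subgroup. -/
def frattiniAct {G : Type u} [Group G] (E : Subgroup G) :
    normalizer (E : Set G) →* MulAut (E ⧸ frattini E) where
  toFun g := QuotientGroup.congr _ _ (E.normalizerMonoidHom g)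
    (map_frattini_aut E _)
  map_one' := MulEquiv.ext fun c => by
    obtain ⟨a, rfl⟩ := QuotientGroup.mk_surjective c
    rw [QuotientGroup.congr_mk, map_one]; rfl
  map_mul' g h := MulEquiv.ext fun c => by
    obtain ⟨a, rfl⟩ := QuotientGroup.mk_surjective c
    rw [MulAut.mul_apply, QuotientGroup.congr_mk, QuotientGroup.congr_mk, QuotientGroup.congr_mk, map_mul]; rfl

theorem frattiniAct_mk {G : Type u} [Group G] (E : Subgroup G) (g : normalizer (E : Set G)) (u : E) :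
    frattiniAct E g (QuotientGroup.mk u) = QuotientGroup.mk (E.normalizerMonoidHom g u) :=
  QuotientGroup.congr_mk _ _ (E.normalizerMonoidHom g) (map_frattini_aut E _) _

/-- The highest powers lie in the largest normal `2`-subgroup. -/
theorem pow_mem_pCore {G : Type u} [Group G] [Finite G] (k : ℕ) (hk : 1 ≤ k) (hsol : Cfsg.IsPSolvable 2 G)
    (hO : Cfsg.pPrimeCore 2 G = ⊥) (hexp : ∀ (P : Sylow 2 G), ∀ s ∈ (P : Subgroup G), s ^ 2 ^ (k + 1) = 1)
    (hrel : ∀ P : Sylow 2 G, ∃ F : Subgroup G, (P : Subgroup G) ≤ normalizer (F : Set G) ∧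
      (∀ s ∈ (P : Subgroup G), s ^ 2 ^ k ∈ F) ∧ ∀ g ∈ (P : Subgroup G), ∀ x ∈ (P : Subgroup G), ∀ e : G,
        e = g ^ 2 ^ (k - 1) * (x ^ 2 ^ (k - 1))⁻¹ → e ^ 2 ∈ F → e ^ 4 = 1 → Commute e (x ^ 2 ^ k))
    (P : Sylow 2 G) (x₁ : G) (hx₁ : x₁ ∈ (P : Subgroup G)) : x₁ ^ 2 ^ k ∈ Cfsg.pCore 2 G := by
  classical
  by_contra hxO
  haveI : Fact (Nat.Prime 2) := ⟨Nat.prime_two⟩
  obtain ⟨q, hqf, T, x, hq2, hTp, hx, hxT, hmove₀⟩ := exists_moved hsol k P x₁ hx₁ (hexp P x₁ hx₁) hxO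
  have hq : q.Prime := Fact.out
  set O := Cfsg.pCore 2 G with hOdef
  have hOp : IsPGroup 2 O := Cfsg.Lib.Components.isPGroup_pCore 2
  set y := x ^ 2 ^ k with hy
  -- the minimal moved group
  obtain ⟨Q₁, ⟨hQT, hQx, hQm⟩, hQmin⟩ := WellFounded.has_min (wellFounded_lt (α := Subgroup G))
    {S | S ≤ T ∧ x ∈ normalizer (S : Set G) ∧ ∃ a ∈ S, a * y ≠ y * a} ⟨T, le_rfl, hxT, by
      obtain ⟨a, ha, hne⟩ := hmove₀
      exact ⟨a, ha, fun e => hne (by rw [e, mul_inv_cancel_right, mul_inv_cancel]; exact one_mem _)⟩⟩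
  have hQp : IsPGroup q Q₁ := hTp.to_le hQT
  have hcop2 : ∀ {S : Subgroup G}, IsPGroup 2 S → (Nat.card Q₁).Coprime (Nat.card S) := by
    intro S hS
    obtain ⟨i, hi⟩ := IsPGroup.iff_card.1 hQp
    obtain ⟨j, hj⟩ := IsPGroup.iff_card.1 hS
    rw [hi, hj]
    exact Nat.Coprime.pow i j ((Nat.coprime_primes hq Nat.prime_two).2 hq2)
  -- the minimal invariant subgroup
  obtain ⟨E, ⟨hEO, hEx, hEQ, hEm⟩, hEmin⟩ := WellFounded.has_min (wellFounded_lt (α := Subgroup G))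
    {S | S ≤ O ∧ x ∈ normalizer (S : Set G) ∧ Q₁ ≤ normalizer (S : Set G) ∧ ¬ Q₁ ≤ centralizer (S : Set G)}
    ⟨O, le_rfl, by rw [normalizer_eq_top_iff.2 inferInstance]; exact mem_top _,
      by rw [normalizer_eq_top_iff.2 inferInstance]; exact le_top, fun h => by
      obtain ⟨a, ha, hne⟩ := hQm
      have haO : a ∈ O := Cfsg.Lib.StableClosure.centralizer_pCore_le_of_pSolvable hsol hO (h ha)
      have h1 : a ∈ Q₁ ⊓ O := ⟨ha, haO⟩
      rw [inf_eq_bot_of_coprime (hcop2 hOp), mem_bot] at h1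
      exact hne (by rw [h1, one_mul, mul_one])⟩
  have hM : ∀ S : Subgroup G, S ≤ E → S ≠ E → x ∈ normalizer (S : Set G) → Q₁ ≤ normalizer (S : Set G) →
      ∀ s ∈ S, ∀ a ∈ Q₁, a * s * a⁻¹ = s := by
    intro S h1 h2 h3 h4 s hs a ha
    have h5 : Q₁ ≤ centralizer (S : Set G) := by
      by_contra h5
      exact hEmin S ⟨h1.trans hEO, h3, h4, h5⟩ (lt_of_le_of_ne h1 h2)
    rw [← mem_centralizer_iff.1 (h5 ha) s hs, mul_inv_cancel_right]
  have hEp : IsPGroup 2 E := hOp.to_le hEO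
  have hEP : E ≤ (P : Subgroup G) := hEO.trans (Cfsg.Lib.Coprime.pCore_le_sylow 2 P)
  haveI : Group.IsNilpotent E := hEp.isNilpotent
  have hsolE : Group.IsSolvable E := inferInstance
  set Φ := (frattini E).map E.subtype with hΦ
  have hΦE : Φ ≤ E := map_subtype_le _
  have hΦne : Φ ≠ E := by
    intro h
    haveI : Nontrivial E := nontrivial_iff_ne_bot _ |>.2 (by
      rintro rfl
      exact hEm fun a _ => mem_centralizer_iff.2 fun z hz => by
        rw [SetLike.mem_coe, mem_bot] at hz; rw [hz, one_mul, mul_one])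
    have h1 : frattini E = ⊤ := map_injective E.subtype_injective (by rw [← MonoidHom.range_eq_map, range_subtype]; exact h)
    obtain ⟨M, hM, -⟩ := (eq_top_or_exists_le_coatom (⊥ : Subgroup E)).resolve_left bot_ne_top
    exact hM.1 (top_le_iff.1 (h1 ▸ frattini_le_coatom hM))
  set L := Q₁ ⊔ zpowers x with hL
  have hLE : L ≤ normalizer (E : Set G) := sup_le hEQ (zpowers_le.2 hEx)
  have hΦfix : ∀ s ∈ Φ, ∀ a ∈ Q₁, a * s * a⁻¹ = s :=
    hM Φ hΦE hΦne (le_normalizer_map_frattini hLE ((le_sup_right : zpowers x ≤ L) (mem_zpowers x)))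
      (le_sup_left.trans (le_normalizer_map_frattini hLE))
  have hsq : ∀ u ∈ E, u ^ 2 ∈ Φ := fun u hu => ⟨_, Cfsg.Lib.PGroups.pow_mem_frattini hEp ⟨u, hu⟩, rfl⟩
  have hcomΦ : ∀ u ∈ E, ∀ v ∈ E, ⁅u, v⁆ ∈ Φ := fun u hu v hv =>
    ⟨⁅(⟨u, hu⟩ : E), ⟨v, hv⟩⁆, Cfsg.Lib.PGroups.commutator_le_frattini hEp
      (commutator_mem_commutator (mem_top _) (mem_top _)), map_commutatorElement E.subtype _ _⟩
  -- generation by commutators
  have hfull : ⁅E, Q₁⁆ = E := by
    by_contra hne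
    have hle : (⁅E, Q₁⁆ : Subgroup G) ≤ E := Cfsg.Lib.Coprime.commutator_le_of_le_normalizer hEQ
    have hn : L ≤ normalizer ((⁅E, Q₁⁆ : Subgroup G) : Set G) :=
      le_normalizer_commutator hLE (sup_le le_normalizer (zpowers_le.2 hQx))
    have h1 := hM _ hle hne (hn ((le_sup_right : zpowers x ≤ L) (mem_zpowers x))) (le_sup_left.trans hn)
    have h2 : ⁅(⁅E, Q₁⁆ : Subgroup G), Q₁⁆ = ⊥ := commutator_eq_bot_iff_le_centralizer.2 fun s hs =>
      mem_centralizer_iff.2 fun a ha => mul_inv_eq_iff_eq_mul.1 (h1 s hs a ha)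
    rw [Cfsg.Lib.Coprime.commutator_commutator_eq hEQ (hcop2 hEp) (Or.inr hsolE)] at h2
    exact hEm (le_centralizer_iff.1 (commutator_eq_bot_iff_le_centralizer.1 h2))
  have hgen : ∀ S : Subgroup G, (∀ u ∈ E, ∀ a ∈ Q₁, u * a * u⁻¹ * a⁻¹ ∈ S) → E ≤ S := fun S h =>
    hfull.symm.le.trans (commutator_le.2 fun u hu a ha => by rw [commutatorElement_def]; exact h u hu a ha)
  have hΦcen : ∀ a ∈ Φ, ∀ b ∈ E, a * b = b * a := by
    have hΦQ : Q₁ ≤ centralizer (Φ : Set G) := fun a ha => mem_centralizer_iff.2 fun s hs =>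
      (mul_inv_eq_iff_eq_mul.1 (hΦfix s hs a ha)).symm
    have h1 : ⁅(⁅Q₁, Φ⁆ : Subgroup G), E⁆ = ⊥ := by
      rw [commutator_eq_bot_iff_le_centralizer.2 hΦQ, commutator_bot_left]
    have h2 : ⁅(⁅Φ, E⁆ : Subgroup G), Q₁⁆ = ⊥ := by
      rw [commutator_eq_bot_iff_le_centralizer]
      have hle : ⁅Φ, E⁆ ≤ Φ := by
        rw [commutator_le]
        intro a ha b hb
        exact hcomΦ a (hΦE ha) b hb
      exact hle.trans (le_centralizer_iff.1 hΦQ)
    have h3 : ⁅(⁅E, Q₁⁆ : Subgroup G), Φ⁆ = ⊥ := commutator_commutator_eq_bot_of_rotate h1 h2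
    rw [hfull, commutator_eq_bot_iff_le_centralizer] at h3
    exact fun a ha b hb => mem_centralizer_iff.1 (h3 hb) a ha
  -- the module
  letI : CommGroup (E ⧸ frattini E) :=
    { (inferInstance : Group (E ⧸ frattini E)) with
      mul_comm := ((Subgroup.Normal.quotient_commutative_iff_commutator_le (N := frattini E)).2
        (Cfsg.Lib.PGroups.commutator_le_frattini hEp)).is_comm.comm }
  haveI : Module (ZMod 2) (Additive (E ⧸ frattini E)) := AddCommGroup.zmodModule fun c => by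
    obtain ⟨c, rfl⟩ := Additive.ofMul.surjective c
    obtain ⟨u, rfl⟩ := QuotientGroup.mk_surjective c
    apply Additive.toMul.injective
    rw [toMul_nsmul, toMul_ofMul, toMul_zero, ← QuotientGroup.mk_pow]
    exact (QuotientGroup.eq_one_iff _).2 (Cfsg.Lib.PGroups.pow_mem_frattini hEp u)
  let ρ : L →* Module.End (ZMod 2) (Additive (E ⧸ frattini E)) :=
    (mulAutToEnd 2 (E ⧸ frattini E)).comp ((frattiniAct E).comp (Subgroup.inclusion hLE))
  have hρv : ∀ (l : L) (u : E), ρ l (Additive.ofMul (QuotientGroup.mk u)) =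
      Additive.ofMul (QuotientGroup.mk (E.normalizerMonoidHom ⟨l, hLE l.2⟩ u) : E ⧸ frattini E) := by
    intro l u
    show Additive.ofMul (frattiniAct E ⟨l, hLE l.2⟩ (QuotientGroup.mk u)) = _
    rw [frattiniAct_mk]
  have hmkΦ : ∀ u : E, (QuotientGroup.mk u : E ⧸ frattini E) = 1 ↔ (u : G) ∈ Φ := fun u =>
    (QuotientGroup.eq_one_iff u).trans ⟨fun h => ⟨u, h, rfl⟩, fun ⟨v, hv, e⟩ => (Subtype.ext e : v = u) ▸ hv⟩
  have hρone : ∀ l : L, ρ l = 1 ↔ ∀ u ∈ E, (l : G) * u * (l : G)⁻¹ * u⁻¹ ∈ Φ := by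
    intro l
    constructor
    · intro h u hu
      have h1 := LinearMap.congr_fun h (Additive.ofMul (QuotientGroup.mk (⟨u, hu⟩ : E)))
      rw [hρv, Module.End.one_apply] at h1
      have h2 : (QuotientGroup.mk (E.normalizerMonoidHom ⟨l, hLE l.2⟩ ⟨u, hu⟩ * ⟨u, hu⟩⁻¹) : E ⧸ frattini E) = 1 := by
        rw [QuotientGroup.mk_mul, QuotientGroup.mk_inv, Additive.ofMul.injective h1, mul_inv_cancel]
      exact (hmkΦ _).1 h2
    · intro h
      refine LinearMap.ext fun c => ?_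
      obtain ⟨c, rfl⟩ := Additive.ofMul.surjective c
      obtain ⟨u, rfl⟩ := QuotientGroup.mk_surjective c
      rw [hρv, Module.End.one_apply]
      congr 1
      rw [← mul_inv_eq_one, ← QuotientGroup.mk_inv, ← QuotientGroup.mk_mul]
      exact (hmkΦ _).2 (h u u.2)
  let xL : L := ⟨x, (le_sup_right : zpowers x ≤ L) (mem_zpowers x)⟩
  have hmkL : ∀ a ∈ Q₁, a ∈ L := fun a ha => (le_sup_left : Q₁ ≤ L) ha
  -- the elements fixed by the odd group lie in the Frattini subgroup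
  have hnofix : ∀ u ∈ E, (∀ a ∈ Q₁, a * u * a⁻¹ = u) → u ∈ Φ := by
    intro u hu hfix
    haveI := Fintype.ofFinite Q₁
    let act : Q₁ → MulAut (E ⧸ frattini E) := fun a => frattiniAct E ⟨(a : G), hEQ a.2⟩
    let ν : E →* E ⧸ frattini E := MonoidHom.mk' (fun v => ∏ a : Q₁, act a (QuotientGroup.mk v))
      (fun v w => by simp [Finset.prod_mul_distrib])
    have hinv : ∀ (v : E) (b : Q₁), ν (E.normalizerMonoidHom ⟨(b : G), hEQ b.2⟩ v) = ν v := by
      intro v b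
      show ∏ a : Q₁, act a (QuotientGroup.mk _) = ∏ a : Q₁, act a (QuotientGroup.mk v)
      refine (Finset.prod_congr rfl fun a _ => ?_).trans (Equiv.prod_comp (Equiv.mulRight b) (fun a => act a (QuotientGroup.mk v)))
      show act a (QuotientGroup.mk _) = act (a * b) (QuotientGroup.mk v)
      rw [show act (a * b) = act a * act b by rw [← map_mul]; rfl, MulAut.mul_apply]
      congr 1
    have hν : ∀ v : E, ν v = 1 := by
      have hle := hgen (ν.ker.map E.subtype) fun v hv a ha => by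
        have hw : a * v⁻¹ * a⁻¹ ∈ E := (mem_normalizer_iff.1 (hEQ ha) _).1 (inv_mem hv)
        refine ⟨⟨v, hv⟩ * ⟨_, hw⟩, ?_, by simp [mul_assoc]⟩
        show ν _ = 1
        rw [map_mul, show (⟨_, hw⟩ : E) = E.normalizerMonoidHom ⟨a, hEQ ha⟩ ⟨v, hv⟩⁻¹ from rfl,
          hinv _ ⟨a, ha⟩, map_inv, mul_inv_cancel]
      intro v
      obtain ⟨w, hw, e⟩ := hle v.2
      exact (Subtype.ext e : w = v) ▸ hw
    have h1 := hν ⟨u, hu⟩
    change ∏ a : Q₁, act a (QuotientGroup.mk (⟨u, hu⟩ : E)) = 1 at h1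
    rw [Finset.prod_congr rfl (fun a _ => show act a (QuotientGroup.mk (⟨u, hu⟩ : E)) = QuotientGroup.mk ⟨u, hu⟩ by
      show frattiniAct E _ _ = _
      rw [frattiniAct_mk]; congr 1; exact Subtype.ext (hfix a a.2)), Finset.prod_const, Finset.card_univ,
      ← Nat.card_eq_fintype_card] at h1
    obtain ⟨i, hi⟩ := IsPGroup.iff_card.1 hQp
    have hodd : Odd (Nat.card Q₁) := hi ▸ (hq.odd_of_ne_two hq2).pow
    obtain ⟨m, hm⟩ := hodd
    have h2 : (QuotientGroup.mk (⟨u, hu⟩ : E) : E ⧸ frattini E) ^ 2 = 1 := by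
      rw [← QuotientGroup.mk_pow]; exact (hmkΦ _).2 (hsq u hu)
    rw [hm, pow_succ, pow_mul, h2, one_pow, one_mul] at h1
    exact (hmkΦ _).1 h1
  -- the odd group is moved on the module
  have hQρ : ∃ a, ∃ ha : a ∈ Q₁, ρ (⟨a, hmkL a ha⟩ * xL ^ 2 ^ k) ≠ ρ (xL ^ 2 ^ k * ⟨a, hmkL a ha⟩) := by
    by_contra hh
    push Not at hh
    obtain ⟨a₁, ha₁, hne₁⟩ := hQm
    set C₁ := (ρ.ker.map L.subtype) ⊓ Q₁ with hC₁
    have hC₁x : x ∈ normalizer (C₁ : Set G) := mem_normalizer_of_conj_le (by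
      rintro _ ⟨⟨z, hz, rfl⟩, hzQ⟩
      exact ⟨⟨xL * z * xL⁻¹, (inferInstance : ρ.ker.Normal).conj_mem z hz xL, rfl⟩,
        (mem_normalizer_iff.1 hQx _).1 hzQ⟩)
    have hzmem : ∀ a ∈ Q₁, y * a * y⁻¹ * a⁻¹ ∈ C₁ := by
      intro a ha
      refine mem_inf.2 ⟨⟨xL ^ 2 ^ k * ⟨a, hmkL a ha⟩ * (xL ^ 2 ^ k)⁻¹ * ⟨a, hmkL a ha⟩⁻¹, ?_, rfl⟩,
        Q₁.mul_mem ((mem_normalizer_iff.1 (pow_mem hQx _) a).1 ha) (Q₁.inv_mem ha)⟩
      show ρ _ = 1
      rw [map_mul, map_mul, ← hh a ha, ← map_mul, ← map_mul, mul_inv_cancel_right, mul_inv_cancel, map_one]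
    by_cases hC : C₁ = Q₁
    · refine hEm (Cfsg.Lib.Coprime.le_centralizer_of_frattini hEQ ?_ fun a ha u hu => ?_)
      · exact (hcop2 hEp).coprime_dvd_right (card_subgroup_dvd_card _)
      · have ha' : a ∈ C₁ := hC.ge ha
        obtain ⟨⟨l, hl, e⟩, -⟩ := ha'
        have h1 := (hρone l).1 hl u hu
        change (L.subtype l) * u * (L.subtype l)⁻¹ * u⁻¹ ∈ Φ at h1
        rwa [e] at h1
    · have hcen : ∀ c ∈ C₁, Commute c y := by
        intro c hc
        by_contra h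
        exact hQmin C₁ ⟨(inf_le_right : C₁ ≤ Q₁).trans hQT, hC₁x, c, hc, h⟩ (lt_of_le_of_ne inf_le_right hC)
      refine hne₁ (commute_of_fixed_commutator (d := y) (u := a₁) (i := 2) ?_ (hcen _ (hzmem a₁ ha₁)) ?_).symm.eq
      · rw [hy, ← pow_mul, ← pow_succ, hexp P x hx]
      · obtain ⟨j, hj⟩ := IsPGroup.iff_orderOf.1 hQp ⟨_, (hzmem a₁ ha₁).2⟩
        rw [Subgroup.orderOf_mk] at hj
        rw [hj]
        exact Nat.Coprime.pow_left j ((Nat.coprime_primes hq Nat.prime_two).2 hq2)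
  obtain ⟨F, hFn, hFpow, hFrel⟩ := hrel P
  have hyF : y ∈ F := hFpow x hx
  have hEF : ∀ u ∈ E, ∀ z ∈ F, u * z * u⁻¹ ∈ F := fun u hu z hz => (mem_normalizer_iff.1 (hFn (hEP hu)) z).1 hz
  -- all commutators of `E` lie in `F`
  have hcomF : ∀ u ∈ E, ∀ v ∈ E, ⁅u, v⁆ ∈ F := by
    let R₀ : Subgroup G :=
      { carrier := {u | u ∈ E ∧ ∀ v ∈ E, ⁅u, v⁆ ∈ F}
        one_mem' := ⟨one_mem E, fun v _ => by simp [commutatorElement_one_left]⟩
        mul_mem' := fun {a b} ha hb => ⟨mul_mem ha.1 hb.1, fun v hv => by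
          rw [show ⁅a * b, v⁆ = (a * ⁅b, v⁆ * a⁻¹) * ⁅a, v⁆ by simp only [commutatorElement_def]; group]
          exact mul_mem (hEF a ha.1 _ (hb.2 v hv)) (ha.2 v hv)⟩
        inv_mem' := fun {a} ha => ⟨inv_mem ha.1, fun v hv => by
          rw [show ⁅a⁻¹, v⁆ = a⁻¹ * ⁅a, v⁆⁻¹ * a⁻¹⁻¹ by simp only [commutatorElement_def]; group]
          exact hEF _ (inv_mem ha.1) _ (inv_mem (ha.2 v hv))⟩ }
    suffices hR : R₀ = E from fun u hu v hv => (hR.ge hu).2 v hv
    by_contra hR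
    have hRx : x ∈ normalizer (R₀ : Set G) := mem_normalizer_of_conj_le fun u hu =>
      ⟨(mem_normalizer_iff.1 hEx u).1 hu.1, fun v hv => by
        have hv' : x⁻¹ * v * x ∈ E := (mem_normalizer_iff''.1 hEx v).1 hv
        rw [show ⁅x * u * x⁻¹, v⁆ = x * ⁅u, x⁻¹ * v * x⁆ * x⁻¹ by simp only [commutatorElement_def]; group]
        exact (mem_normalizer_iff.1 (hFn hx) _).1 (hu.2 _ hv')⟩
    have hRQ : Q₁ ≤ normalizer (R₀ : Set G) := fun a ha => mem_normalizer_of_conj_le fun u hu =>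
      ⟨(mem_normalizer_iff.1 (hEQ ha) u).1 hu.1, fun v hv => by
        have hv' : a⁻¹ * v * a ∈ E := (mem_normalizer_iff''.1 (hEQ ha) v).1 hv
        rw [show ⁅a * u * a⁻¹, v⁆ = a * ⁅u, a⁻¹ * v * a⁆ * a⁻¹ by simp only [commutatorElement_def]; group,
          hΦfix _ (hcomΦ u hu.1 _ hv') a ha]
        exact hu.2 _ hv'⟩
    have hcent := hM R₀ (fun u hu => hu.1) hR hRx hRQ
    obtain ⟨a, ha, hne⟩ := hQρ
    refine hne ?_
    have hy1 : ρ (xL ^ 2 ^ k) = 1 := (hρone _).2 fun u hu => by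
      have hzE : y * u * y⁻¹ * u⁻¹ ∈ E := mul_mem ((mem_normalizer_iff.1 (pow_mem hEx _) u).1 hu) (inv_mem hu)
      have hzF : y * u * y⁻¹ * u⁻¹ ∈ F := by
        have h1 := mul_mem hyF (hEF u hu _ (inv_mem hyF))
        rwa [show y * (u * y⁻¹ * u⁻¹) = y * u * y⁻¹ * u⁻¹ by group] at h1
      refine hnofix _ hzE fun b hb => hcent _ ⟨hzE, fun v hv => ?_⟩ b hb
      set z := y * u * y⁻¹ * u⁻¹
      rw [show ⁅z, v⁆ = z * (v * z⁻¹ * v⁻¹) by rw [commutatorElement_def]; group]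
      exact mul_mem hzF (hEF v hv _ (inv_mem hzF))
    rw [map_mul, map_mul, hy1, one_mul, mul_one]
  -- squares and fourth powers
  have hmulsq : ∀ u v : G, (u * v) ^ 2 = u ^ 2 * ⁅u⁻¹, v⁆ * v ^ 2 := fun u v => by
    rw [pow_two, pow_two, pow_two, commutatorElement_def]; group
  have hgensq : ∀ u ∈ E, ∀ a ∈ Q₁, (u * a * u⁻¹ * a⁻¹) ^ 2 = ⁅u⁻¹, a * u⁻¹ * a⁻¹⁆ := by
    intro u hu a ha
    have hw : a * u⁻¹ * a⁻¹ ∈ E := (mem_normalizer_iff.1 (hEQ ha) _).1 (inv_mem hu)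
    rw [show u * a * u⁻¹ * a⁻¹ = u * (a * u⁻¹ * a⁻¹) by group, hmulsq, conj_pow, hΦfix _ (hsq _ (inv_mem hu)) a ha,
      hΦcen _ (hsq u hu) _ (hΦE (hcomΦ _ (inv_mem hu) _ hw)), mul_assoc, inv_pow, mul_inv_cancel, mul_one]
  have hsqF : ∀ u ∈ E, u ^ 2 ∈ F := by
    let S₂ : Subgroup G :=
      { carrier := {u | u ∈ E ∧ u ^ 2 ∈ F}
        one_mem' := ⟨one_mem E, by simp⟩
        mul_mem' := fun {a b} ha hb => ⟨mul_mem ha.1 hb.1, by
          rw [hmulsq]; exact mul_mem (mul_mem ha.2 (hcomF _ (inv_mem ha.1) _ hb.1)) hb.2⟩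
        inv_mem' := fun {a} ha => ⟨inv_mem ha.1, by rw [inv_pow]; exact inv_mem ha.2⟩ }
    intro u hu
    refine (hgen S₂ (fun v hv a ha => ?_) hu).2
    have hw : a * v⁻¹ * a⁻¹ ∈ E := (mem_normalizer_iff.1 (hEQ ha) _).1 (inv_mem hv)
    refine ⟨by rw [show v * a * v⁻¹ * a⁻¹ = v * (a * v⁻¹ * a⁻¹) by group]; exact mul_mem hv hw, ?_⟩
    rw [hgensq v hv a ha]
    exact hcomF _ (inv_mem hv) _ hw
  have hcomsq : ∀ u ∈ E, ∀ v ∈ E, ⁅u, v⁆ ^ 2 = 1 := by
    intro u hu v hv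
    have h1 : ⁅u * u, v⁆ = 1 := commutatorElement_eq_one_iff_mul_comm.2 (by
      rw [← pow_two]; exact hΦcen _ (hsq u hu) v hv)
    rw [show ⁅u * u, v⁆ = (u * ⁅u, v⁆ * u⁻¹) * ⁅u, v⁆ by simp only [commutatorElement_def]; group,
      ← hΦcen _ (hcomΦ u hu v hv) u hu, mul_inv_cancel_right, ← pow_two] at h1
    exact h1
  have hfour : ∀ u ∈ E, u ^ 4 = 1 := by
    let S₄ : Subgroup G :=
      { carrier := {u | u ∈ E ∧ u ^ 4 = 1}
        one_mem' := ⟨one_mem E, by simp⟩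
        mul_mem' := fun {a b} ha hb => ⟨mul_mem ha.1 hb.1, by
          have hc := hcomΦ _ (inv_mem ha.1) _ hb.1
          have h1 : Commute (a ^ 2 * ⁅a⁻¹, b⁆) (b ^ 2) :=
            hΦcen _ (mul_mem (hsq a ha.1) hc) _ (hΦE (hsq b hb.1))
          have h2 : Commute (a ^ 2) ⁅a⁻¹, b⁆ := hΦcen _ (hsq a ha.1) _ (hΦE hc)
          rw [show 4 = 2 * 2 from rfl, pow_mul, hmulsq, h1.mul_pow, h2.mul_pow, ← pow_mul, ← pow_mul,
            hcomsq _ (inv_mem ha.1) _ hb.1, ha.2, hb.2, one_mul, one_mul]⟩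
        inv_mem' := fun {a} ha => ⟨inv_mem ha.1, by rw [inv_pow, ha.2, inv_one]⟩ }
    intro u hu
    refine (hgen S₄ (fun v hv a ha => ?_) hu).2
    have hw : a * v⁻¹ * a⁻¹ ∈ E := (mem_normalizer_iff.1 (hEQ ha) _).1 (inv_mem hv)
    refine ⟨by rw [show v * a * v⁻¹ * a⁻¹ = v * (a * v⁻¹ * a⁻¹) by group]; exact mul_mem hv hw, ?_⟩
    rw [show 4 = 2 * 2 from rfl, pow_mul, hgensq v hv a ha, hcomsq _ (inv_mem hv) _ hw]
  -- the degree bound
  have hsum : ∀ (i : ℕ) (u : E), ∃ h : (u * x : G) ^ i * (x ^ i)⁻¹ ∈ E,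
      Additive.ofMul (QuotientGroup.mk ⟨_, h⟩ : E ⧸ frattini E) =
        (∑ j ∈ Finset.range i, ρ xL ^ j) (Additive.ofMul (QuotientGroup.mk u)) := by
    intro i
    induction i with
    | zero =>
      intro u
      refine ⟨by simp, ?_⟩
      rw [Finset.sum_range_zero, LinearMap.zero_apply]
      have h0 : ((u * x : G) ^ 0 * (x ^ 0)⁻¹) ∈ Φ := by simp
      exact congrArg Additive.ofMul ((hmkΦ ⟨_, hΦE h0⟩).2 h0)
    | succ i ih =>
      intro u
      obtain ⟨h, he⟩ := ih u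
      have hc : x ^ i * (u : G) * (x ^ i)⁻¹ ∈ E := (mem_normalizer_iff.1 (pow_mem hEx i) _).1 u.2
      have heq : (u * x : G) ^ (i + 1) * (x ^ (i + 1))⁻¹ = ((u * x : G) ^ i * (x ^ i)⁻¹) * (x ^ i * u * (x ^ i)⁻¹) := by
        rw [pow_succ (u * x : G) i, pow_succ x i]; group
      refine ⟨heq ▸ mul_mem h hc, ?_⟩
      rw [Finset.sum_range_succ, LinearMap.add_apply, ← he, ← map_pow, hρv, ← ofMul_mul, ← QuotientGroup.mk_mul]
      congr 2
      exact Subtype.ext heq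
  obtain ⟨a, ha, hne⟩ := hQρ
  haveI : Nontrivial (Additive (E ⧸ frattini E)) := by
    by_contra h
    rw [not_nontrivial_iff_subsingleton] at h
    haveI := h
    exact hne (LinearMap.ext fun c => Subsingleton.elim _ _)
  refine hne (no_low_degree (q := q) ρ xL k hk (Subtype.ext (hexp P x hx)) ?_ hq2 (Q₁.subgroupOf L)
    (hQp.comap_of_injective _ L.subtype_injective)
    (mem_normalizer_of_conj_le fun z hz => (mem_normalizer_iff.1 hQx _).1 hz) _ ha)
  have h2k : 2 ^ k = 2 ^ (k - 1) + 2 ^ (k - 1) := by rw [← two_mul, ← pow_succ', show k - 1 + 1 = k by omega]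
  haveI : CharP (Module.End (ZMod 2) (Additive (E ⧸ frattini E))) 2 :=
    charP_of_injective_algebraMap (algebraMap (ZMod 2) _).injective 2
  haveI : ExpChar (Module.End (ZMod 2) (Additive (E ⧸ frattini E))) 2 := ExpChar.prime Nat.prime_two
  rw [pow_add, sub_pow_expChar_pow_of_commute (p := 2) _ (Commute.one_right _), one_pow, ← map_pow]
  have hpoly := congrArg (Polynomial.aeval (ρ xL)) (geom_sum_eq_pow (p := 2) (k - 1))
  simp only [map_pow, map_sub, Polynomial.aeval_X, map_one, map_sum] at hpoly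
  rw [hpoly]
  refine LinearMap.ext fun c => ?_
  obtain ⟨c, rfl⟩ := Additive.ofMul.surjective c
  obtain ⟨u, rfl⟩ := QuotientGroup.mk_surjective c
  obtain ⟨h, he⟩ := hsum (2 ^ (k - 1)) u
  set e := (u * x : G) ^ 2 ^ (k - 1) * (x ^ 2 ^ (k - 1))⁻¹
  have hcomm := hFrel _ (mul_mem (hEP u.2) hx) x hx e rfl (hsqF e h) (hfour e h)
  rw [Module.End.mul_apply, ← he, LinearMap.sub_apply, Module.End.one_apply, hρv, LinearMap.zero_apply, sub_eq_zero]
  congr 2
  refine Subtype.ext ?_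
  show y * e * y⁻¹ = e
  rw [← hcomm.eq, mul_inv_cancel_right]

end Cfsg.Lib.TwoLength
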